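import Groth.Agent.SGA3x.K9.Rigid

/-!
# Isomorphisms between groups of multiplicative type and surjective closed immersions; nilpotent ideals
-/

set_option autoImplicit false
universe u
open CategoryTheory MonoidalCategory CartesianMonoidalCategory MonObj GrpObj AlgebraicGeometry Limits

namespace K9.RigidIso

open K9.Rigid K9.Glue Groth.Agent.Sga3B

variable {S : Scheme.{u}} {S₀ : Scheme.{u}} (i₀ : S₀ ⟶ S) [IsClosedImmersion i₀] [Surjective i₀]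
variable {H H' : Over S} [GrpObj H] [GrpObj H']

lemma covers_swap {A B : Over S} [GrpObj A] [GrpObj B] (h : Covers (AffP (Split₂ A B))) :
    Covers (AffP (Split₂ B A)) := by
  refine h.mono (stable_affP _) ?_
  rintro V ⟨C, _, x, hx, v⟩
  exact ⟨C, inferInstance, x, ⟨hx.2, hx.1⟩, v⟩

lemma covers_left {A B : Over S} [GrpObj A] [GrpObj B] (h : Covers (AffP (Split₂ A B))) :
    Covers (AffP (Split₂ A A)) := by
  refine h.mono (stable_affP _) ?_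
  rintro V ⟨C, _, x, hx, v⟩
  exact ⟨C, inferInstance, x, ⟨hx.1, hx.1⟩, v⟩

/-- **Isomorphisms over `S₀` lift to isomorphisms over `S`.** -/
theorem exists_iso (hc : Covers (AffP (Split₂ H H'))) {φ : H ⊗ Over.mk i₀ ⟶ H'} {φ' : H' ⊗ Over.mk i₀ ⟶ H}
    (hφ : AutFam.IsHomFamily H H' φ) (hφ' : AutFam.IsHomFamily H' H φ')
    (h1 : ∀ (X : Over S) (g : X ⟶ H) (t : X ⟶ Over.mk i₀), lift (lift g t ≫ φ) t ≫ φ' = g)
    (h2 : ∀ (X : Over S) (g : X ⟶ H') (t : X ⟶ Over.mk i₀), lift (lift g t ≫ φ') t ≫ φ = g) :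
    ∃ e : H ≅ H', IsMonHom e.hom ∧ ∀ {T : Over S} (h : T ⟶ H) (t : T ⟶ Over.mk i₀), h ≫ e.hom = lift h t ≫ φ := by
  obtain ⟨ψ, hψ, hψ1⟩ := exists_lift i₀ hc hφ
  obtain ⟨ψ', hψ', hψ1'⟩ := exists_lift i₀ (covers_swap hc) hφ'
  refine ⟨⟨ψ, ψ', ?_, ?_⟩, hψ, hψ1⟩
  · refine hom_eq i₀ (covers_left hc) fun T h t => ?_
    rw [← Category.assoc, hψ1' _ t, hψ1 _ t, h1, Category.comp_id]
  · refine hom_eq i₀ (covers_left (covers_swap hc)) fun T h t => ?_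
    rw [← Category.assoc, hψ1 _ t, hψ1' _ t, h2, Category.comp_id]

theorem surjective_of_nil {R : Type u} [CommRing R] (J : Ideal R) (hJ : ∀ x ∈ J, IsNilpotent x) :
    Surjective (Spec.map (CommRingCat.ofHom (Ideal.Quotient.mk J))) := by
  refine ⟨?_⟩
  exact (PrimeSpectrum.comap_quotientMk_bijective_of_le_nilradical (I := J) (fun x hx => mem_nilradical.mpr (hJ x hx))).2

theorem nil_of_isNilpotent {R : Type u} [CommRing R] {J : Ideal R} (hJ : IsNilpotent J) :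
    ∀ x ∈ J, IsNilpotent x := by
  intro x hx
  obtain ⟨n, hn⟩ := hJ
  refine ⟨n, ?_⟩
  have := Ideal.pow_mem_pow hx n
  rwa [hn, Ideal.zero_eq_bot, Ideal.mem_bot] at this

theorem surjective_of_isNilpotent {R : Type u} [CommRing R] (J : Ideal R) (hJ : IsNilpotent J) :
    Surjective (Spec.map (CommRingCat.ofHom (Ideal.Quotient.mk J))) :=
  surjective_of_nil J (nil_of_isNilpotent hJ)

section conj

variable {G K : Over S} [GrpObj G] [GrpObj K] {T₀ : Over S}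

/-- If `int(g₀)` carries `i : H ⟶ G` into the subgroup `k : K ⟶ G` over `T₀`, this gives a family of homomorphisms. -/
theorem exists_fam_of_conj (i : H ⟶ G) [IsMonHom i] (k : K ⟶ G) [IsMonHom k] [Mono k] (g₀ : T₀ ⟶ G)
    (h0 : ∀ (X : Over S) (p : X ⟶ T₀) (h : X ⟶ H), ∃ x : X ⟶ K, (p ≫ g₀) * (h ≫ i) * (p ≫ g₀)⁻¹ = x ≫ k) :
    ∃ φ : H ⊗ T₀ ⟶ K, AutFam.IsHomFamily H K φ ∧
      ∀ (X : Over S) (p : X ⟶ T₀) (h : X ⟶ H), (lift h p ≫ φ) ≫ k = (p ≫ g₀) * (h ≫ i) * (p ≫ g₀)⁻¹ := by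
  obtain ⟨φ, hφ⟩ := h0 (H ⊗ T₀) (snd _ _) (fst _ _)
  have key : ∀ (X : Over S) (p : X ⟶ T₀) (h : X ⟶ H), (lift h p ≫ φ) ≫ k = (p ≫ g₀) * (h ≫ i) * (p ≫ g₀)⁻¹ := by
    intro X p h
    rw [Category.assoc, ← hφ, MonObj.comp_mul, MonObj.comp_mul, GrpObj.comp_inv, lift_snd_assoc, lift_fst_assoc]
  refine ⟨φ, ?_, key⟩
  intro X g₁ g₂ t
  rw [← cancel_mono k, key, MonObj.mul_comp, MonObj.mul_comp, key, key]
  group

end conj

end K9.RigidIso
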