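import Groth.Agent.SGA3x.K7.ConjGlobal
import Groth.Agent.SGA3x.K9.RigidIso

/-!
# Lifting homomorphisms from groups of multiplicative type along a nilpotent ideal
-/

set_option autoImplicit false
universe u
open CategoryTheory MonoidalCategory CartesianMonoidalCategory MonObj GrpObj AlgebraicGeometry Limits
open scoped TensorProduct

namespace K9.LiftHom

open Groth.Agent.Sga3B Groth.Agent.Sga3B.InfConj Groth.Agent.Sga3.H802.HaarPts Groth.Agent.Sga3.H802.HaarHom
open Groth.Agent.Sga3.H802.HomFam K7 K7.ConjGlobal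
open Groth.Agent.Books.AffBridge Groth.Agent.Sga3B.AffPts
open Groth.Agent.Sga3B.HaarDef hiding exists_conj_abstract exists_hom_abstract

variable {R : Type u} [CommRing R] {H K : Over (Spec (CommRingCat.of R))} [GrpObj H] [GrpObj K]

/-- **Lifting of homomorphisms**, smooth target. -/
theorem exists_lift_smooth {J : Ideal R} (hJ : IsNilpotent J) (hH : MTHaar.IsMT H) (hK : Smooth K.hom)
    {φ : H ⊗ pt R (R ⧸ J) ⟶ K} (hφ : AutFam.IsHomFamily H K φ) :
    ∃ ψ : H ⟶ K, IsMonHom ψ ∧ ∀ {T : Over (Spec (CommRingCat.of R))} (h : T ⟶ H) (t : T ⟶ pt R (R ⧸ J)),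
      h ≫ ψ = lift h t ≫ φ := by
  obtain ⟨A, _, _, e, he, l, hl⟩ := MTHaar.exists_model hH
  obtain ⟨a, ha, ha'⟩ := FamGen.exists_lift_family (G := K) (X := R) (Y := R ⧸ J) (e : H ≅ pt R A)
    (isModel_of_isMonHom e) (IntDesc.haarOfIsInt hl) (π := Ideal.Quotient.mkₐ R J) (Ideal.Quotient.mkₐ_surjective R J)
    (by rwa [show RingHom.ker (Ideal.Quotient.mkₐ R J) = J from Ideal.mk_ker]) hφ
  have key : ∀ {T : Over (Spec (CommRingCat.of R))} (h : T ⟶ H), h ≫ lift (𝟙 H) (toUnit H ≫ topPt R) ≫ a =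
      lift h (toUnit T ≫ topPt R) ≫ a := by
    intro T h
    rw [← Category.assoc, comp_lift, Category.comp_id, ← Category.assoc, show h ≫ toUnit H = toUnit T from toUnit_unique _ _]
  refine ⟨lift (𝟙 _) (toUnit _ ≫ topPt R) ≫ a, IsoFam.isMonHom_of_mul _ ?_, ?_⟩
  · intro T x y
    rw [key, key, key]
    exact ha _ _ _ _
  · intro T h t
    rw [key, ← ha', lift_whiskerLeft_assoc]
    congr 2
    exact pt_ext _ _

/-- **Lifting of homomorphisms**, the target smooth or of multiplicative type. -/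
theorem exists_lift {J : Ideal R} (hJ : IsNilpotent J) (hH : MTHaar.IsMT H) (hK : Smooth K.hom ∨ MTHaar.IsMT K)
    {φ : H ⊗ pt R (R ⧸ J) ⟶ K} (hφ : AutFam.IsHomFamily H K φ) :
    ∃ ψ : H ⟶ K, IsMonHom ψ ∧ ∀ {T : Over (Spec (CommRingCat.of R))} (h : T ⟶ H) (t : T ⟶ pt R (R ⧸ J)),
      h ≫ ψ = lift h t ≫ φ := by
  obtain hK | hK := hK
  · exact exists_lift_smooth hJ hH hK hφ
  · have h1 := K9.RigidIso.surjective_of_isNilpotent J hJ
    have hcl : IsClosedImmersion (Spec.map (CommRingCat.ofHom (Ideal.Quotient.mk J))) :=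
      IsClosedImmersion.spec_of_surjective _ Ideal.Quotient.mk_surjective
    exact K9.Rigid.exists_lift (Spec.map (CommRingCat.ofHom (Ideal.Quotient.mk J))) (K9.Rigid.covers_split₂ hH hK) hφ

end K9.LiftHom
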