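import Groth.Prelude.Def_TwC
import Mathlib.AlgebraicGeometry.Sites.Fpqc

/-!
# Gluing morphisms of `S`-schemes along fpqc coverings

`locSieve Loc T`: the sieve on `T.left` of the morphisms `r` with `Loc (Over.mk (r ≫ T.hom))`, for a predicate
`Loc` on `Over S` stable under precomposition.  If the sieve on `S` is an fpqc covering sieve (`Covers Loc`), morphisms
of `S`-schemes out of any `T` can be compared and glued on `Loc`-objects over `T`.

* `covers_of_fpqc`: the fpqc case of `TwC.Locally` gives such coverings, by spectra of rings.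
* `Covers.hom_ext`, `Covers.existsUnique_glue`.
-/

set_option autoImplicit false
universe u

open CategoryTheory CategoryTheory.Limits MonoidalCategory CartesianMonoidalCategory MonObj GrpObj AlgebraicGeometry Opposite

namespace K9.Glue

variable {S : Scheme.{u}}

/-- stable under precomposition -/
def Stable (Loc : Over S → Prop) : Prop := ∀ {T T' : Over S}, (T' ⟶ T) → Loc T → Loc T'

/-- The sieve of `T.left` attached to a stable predicate. -/
def locSieve {Loc : Over S → Prop} (hL : Stable Loc) (T : Over S) : Sieve T.left where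
  arrows _ r := Loc (Over.mk (r ≫ T.hom))
  downward_closed := by
    rintro Y Z r hr g
    exact hL (Over.homMk g (by simp) : Over.mk ((g ≫ r) ≫ T.hom) ⟶ Over.mk (r ≫ T.hom)) hr

/-- `Loc` is stable and holds fpqc-locally on `S`. -/
structure Covers (Loc : Over S → Prop) : Prop where
  stable : Stable Loc
  mem : ∃ R : Sieve S, R ∈ Scheme.fpqcTopology S ∧ ∀ (Z : Scheme.{u}) (r : Z ⟶ S), R r → Loc (Over.mk r)

variable {Loc : Over S → Prop}

theorem Covers.sieve_mem (h : Covers Loc) (T : Over S) : locSieve h.stable T ∈ Scheme.fpqcTopology T.left := by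
  obtain ⟨R, hR, hRL⟩ := h.mem
  refine (Scheme.fpqcTopology).superset_covering ?_ ((Scheme.fpqcTopology).pullback_stable T.hom hR)
  intro Y r hr
  exact hRL _ _ hr

theorem isSheaf_yoneda (Z : Scheme.{u}) : Presieve.IsSheaf Scheme.fpqcTopology (yoneda.obj Z) :=
  GrothendieckTopology.Subcanonical.isSheaf_of_isRepresentable (J := Scheme.fpqcTopology) _

theorem Covers.hom_ext (hL : Covers Loc) {T Y : Over S} {f g : T ⟶ Y}
    (h : ∀ (T' : Over S) (t : T' ⟶ T), Loc T' → t ≫ f = t ≫ g) : f = g := by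
  apply Over.OverMorphism.ext
  refine ((isSheaf_yoneda Y.left).isSeparated _ (hL.sieve_mem T)).ext fun Z r hr => ?_
  have := congrArg (fun m => m.left) (h (Over.mk (r ≫ T.hom)) (Over.homMk r) hr)
  simpa using this

theorem Covers.existsUnique_glue (hL : Covers Loc) {T Y : Over S}
    (f : ∀ (T' : Over S) (_ : T' ⟶ T) (_ : Loc T'), T' ⟶ Y)
    (hnat : ∀ (T' T'' : Over S) (r : T'' ⟶ T') (t : T' ⟶ T) (x : Loc T') (x'' : Loc T''),
      r ≫ f T' t x = f T'' (r ≫ t) x'') :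
    ∃! h : T ⟶ Y, ∀ (T' : Over S) (t : T' ⟶ T) (x : Loc T'), t ≫ h = f T' t x := by
  have hmem := hL.sieve_mem T
  have hsh := (isSheaf_yoneda Y.left) _ hmem
  let fam : Presieve.FamilyOfElements (yoneda.obj Y.left) (locSieve hL.stable T).arrows :=
    fun Z r hr => (f (Over.mk (r ≫ T.hom)) (Over.homMk r) hr).left
  have hcomp : fam.Compatible := by
    rw [Presieve.compatible_iff_sieveCompatible]
    intro Z W r g hr
    let e : Over.mk ((g ≫ r) ≫ T.hom) ⟶ Over.mk (r ≫ T.hom) := Over.homMk g (by simp)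
    have he : (Over.homMk (g ≫ r) : Over.mk ((g ≫ r) ≫ T.hom) ⟶ T) = e ≫ Over.homMk r := by
      ext1
      simp [e]
    have h1 := hnat _ _ e (Over.homMk r) hr (hL.stable e hr)
    rw [← he] at h1
    exact (congrArg (fun m => m.left) h1).symm
  obtain ⟨h0, hh0, -⟩ := hsh fam hcomp
  have hpt : ∀ (T' : Over S) (t : T' ⟶ T) (x : Loc T'), t.left ≫ h0 = (f T' t x).left := by
    intro T' t x
    let e : Over.mk (t.left ≫ T.hom) ⟶ T' := Over.homMk (𝟙 _) (by simp)
    have hr : locSieve hL.stable T t.left := hL.stable e x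
    have h1 := hh0 t.left hr
    change t.left ≫ h0 = fam t.left hr at h1
    have h2 : (Over.homMk t.left : Over.mk (t.left ≫ T.hom) ⟶ T) = e ≫ t := by
      ext1
      simp [e]
    have h3 := hnat _ _ e t x hr
    rw [h1]
    change (f (Over.mk (t.left ≫ T.hom)) (Over.homMk t.left) hr).left = _
    rw [h2, ← h3]
    change 𝟙 _ ≫ (f T' t x).left = _
    rw [Category.id_comp]
  have hover : h0 ≫ Y.hom = T.hom := by
    refine ((isSheaf_yoneda S).isSeparated _ hmem).ext fun Z r hr => ?_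
    change r ≫ h0 ≫ Y.hom = r ≫ T.hom
    have h1 := hh0 r hr
    change r ≫ h0 = fam r hr at h1
    rw [← Category.assoc, h1]
    exact Over.w (f (Over.mk (r ≫ T.hom)) (Over.homMk r) hr)
  refine ⟨Over.homMk h0 hover, fun T' t x => ?_, fun h' hh' => ?_⟩
  · ext1
    exact hpt T' t x
  · refine hL.hom_ext fun T' t x => ?_
    rw [hh' T' t x]
    ext1
    exact (hpt T' t x).symm

/-- Intersection of two covering predicates. -/
theorem Covers.inter {Loc' : Over S → Prop} (h : Covers Loc) (h' : Covers Loc') :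
    Covers (fun T => Loc T ∧ Loc' T) where
  stable g hx := ⟨h.stable g hx.1, h'.stable g hx.2⟩
  mem := by
    obtain ⟨R, hR, hR'⟩ := h.mem
    obtain ⟨Q, hQ, hQ'⟩ := h'.mem
    refine ⟨R ⊓ Q, (Scheme.fpqcTopology).intersection_covering hR hQ, fun Z r hr => ⟨hR' _ _ hr.1, hQ' _ _ hr.2⟩⟩

theorem Covers.mono {Loc' : Over S → Prop} (h : Covers Loc) (h' : Stable Loc')
    (hle : ∀ T, Loc T → Loc' T) : Covers Loc' where
  stable := h'
  mem := by
    obtain ⟨R, hR, hR'⟩ := h.mem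
    exact ⟨R, hR, fun Z r hr => hle _ (hR' _ _ hr)⟩

/-- The stable predicate generated by a class of objects. -/
def Gen (P : Over S → Prop) (T : Over S) : Prop := ∃ V : Over S, P V ∧ Nonempty (T ⟶ V)

theorem stable_gen (P : Over S → Prop) : Stable (Gen P) := by
  rintro T T' g ⟨V, hV, ⟨t⟩⟩
  exact ⟨V, hV, ⟨g ≫ t⟩⟩

theorem covers_gen_of_family {P : Over S → Prop} {I : Type*} (X : I → Scheme.{u}) (f : ∀ i, X i ⟶ S)
    (hP : ∀ i, P (Over.mk (f i))) (hf : Presieve.ofArrows X f ∈ Scheme.fpqcPrecoverage S) : Covers (Gen P) where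
  stable := stable_gen P
  mem := by
    refine ⟨Sieve.generate (Presieve.ofArrows X f), Precoverage.generate_mem_toGrothendieck hf, ?_⟩
    rintro Z r ⟨W, q, g, ⟨i⟩, rfl⟩
    exact ⟨Over.mk (f i), hP i, ⟨Over.homMk q rfl⟩⟩

/-- A family of opens covering `S'` yields an fpqc covering family, for `S' ⟶ S` an fpqc covering of the type of
`TwC.Locally`. -/
theorem ofArrows_mem_fpqc {S' : Scheme.{u}} (f : S' ⟶ S) [Flat f] [Surjective f]
    (hf : ∀ V : S.Opens, IsAffineOpen V →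
      ∃ W : S'.Opens, IsCompact (W : Set S') ∧ f.base '' (W : Set S') = (V : Set S))
    {I : Type u} (X : I → Scheme.{u}) (j : ∀ i, X i ⟶ S') [∀ i, IsOpenImmersion (j i)]
    (hU : ∀ s' : S', ∃ i, s' ∈ (j i).opensRange) :
    Presieve.ofArrows X (fun i => j i ≫ f) ∈ Scheme.fpqcPrecoverage S := by
  let E : PreZeroHypercover.{u} S := ⟨I, X, fun i => j i ≫ f⟩
  have hqc : QuasiCompactCover E := by
    refine ⟨fun {V} hV => ?_⟩
    obtain ⟨W, hW, hWV⟩ := hf V hV
    have h1 : ∀ w : W, ∃ (i : I) (O : (X i).Opens), IsCompact (O : Set (X i)) ∧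
        w.1 ∈ (j i) ''ᵁ O ∧ ((j i) ''ᵁ O) ≤ W := by
      rintro ⟨w, hw⟩
      obtain ⟨i, x, rfl⟩ := hU w
      obtain ⟨_, ⟨O, hO, rfl⟩, hxO, hle⟩ := (X i).isBasis_affineOpens.exists_subset_of_mem_open
        (show x ∈ ((j i) ⁻¹ᵁ W : Set (X i)) from hw) ((j i) ⁻¹ᵁ W).2
      exact ⟨i, O, hO.isCompact, ⟨x, hxO, rfl⟩, by
        rintro _ ⟨y, hy, rfl⟩
        exact hle hy⟩
    choose i O hO hw hle using h1
    obtain ⟨t, ht⟩ := hW.elim_finite_subcover (fun w : W => (((j (i w)) ''ᵁ (O w) : S'.Opens) : Set S'))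
      (fun w => ((j (i w)) ''ᵁ (O w)).2) (fun w hw' => Set.mem_iUnion.mpr ⟨⟨w, hw'⟩, hw ⟨w, hw'⟩⟩)
    refine IsCompactOpenCovered.of_finite (κ := t) (fun w => i w.1) (fun w => ⟨(O w.1 : Set _), (O w.1).2⟩)
      (fun w => hO w.1) ?_
    apply Set.Subset.antisymm
    · rintro _ hx
      obtain ⟨w, y, hy, rfl⟩ := Set.mem_iUnion.mp hx
      rw [← hWV]
      exact ⟨(j (i w.1)) y, hle w.1 ⟨y, hy, rfl⟩, rfl⟩
    · rintro x hx
      rw [← hWV] at hx
      obtain ⟨y, hy, rfl⟩ := hx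
      obtain ⟨w, hwt, hyw⟩ := Set.mem_iUnion₂.mp (ht hy)
      obtain ⟨z, hz, rfl⟩ := hyw
      exact Set.mem_iUnion.mpr ⟨⟨w, hwt⟩, z, hz, rfl⟩
  refine ⟨?_, ?_⟩
  · exact Scheme.presieve₀_mem_qcPrecoverage_iff.mpr hqc
  · rw [Scheme.ofArrows_mem_precoverage_iff]
    refine ⟨fun s => ?_, fun i => inferInstance⟩
    obtain ⟨s', rfl⟩ := f.surjective s
    obtain ⟨i, x, hx⟩ := hU s'
    exact ⟨i, x, by simp [← hx]⟩

/-- A single fpqc covering. -/
theorem covers_single {S' : Scheme.{u}} (f : S' ⟶ S) [Flat f] [Surjective f]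
    (hf : ∀ V : S.Opens, IsAffineOpen V →
      ∃ W : S'.Opens, IsCompact (W : Set S') ∧ f.base '' (W : Set S') = (V : Set S)) :
    Covers (fun T : Over S => Nonempty (T ⟶ Over.mk f)) := by
  have h := covers_gen_of_family (P := fun V : Over S => Nonempty (V ⟶ Over.mk f))
    (fun _ : PUnit.{u + 1} => S') (fun _ => 𝟙 S' ≫ f)
    (fun _ => ⟨Over.homMk (𝟙 _)⟩)
    (ofArrows_mem_fpqc f hf (fun _ => S') (fun _ => 𝟙 S') (fun s' => ⟨⟨⟩, s', rfl⟩))
  refine h.mono ?_ ?_
  · rintro T T' g ⟨t⟩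
    exact ⟨g ≫ t⟩
  · rintro T ⟨V, ⟨v⟩, ⟨t⟩⟩
    exact ⟨t ≫ v⟩

/-- The objects `Spec C ⟶ S` for which `P` holds. -/
def AffP (P : ∀ (S' : Scheme.{u}), (S' ⟶ S) → Prop) (V : Over S) : Prop :=
  ∃ (C : Type u) (_ : CommRing C) (x : Spec (CommRingCat.of C) ⟶ S), P _ x ∧ Nonempty (V ⟶ Over.mk x)

theorem stable_affP (P : ∀ (S' : Scheme.{u}), (S' ⟶ S) → Prop) : Stable (AffP P) := by
  rintro T T' g ⟨C, _, x, hx, ⟨t⟩⟩
  exact ⟨C, inferInstance, x, hx, ⟨g ≫ t⟩⟩

/-- The fpqc case of `TwC.Locally`: `P` holds over the members of an fpqc covering by spectra of rings. -/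
theorem covers_of_fpqc {P : ∀ (S' : Scheme.{u}), (S' ⟶ S) → Prop}
    (hP : ∀ {S₁ S₂ : Scheme.{u}} (g : S₂ ⟶ S₁) (f : S₁ ⟶ S), P S₁ f → P S₂ (g ≫ f))
    (h : TwC.Locally S TwC.Topology.fpqc P) : Covers (AffP P) := by
  obtain ⟨S', f, _, _, hf, h⟩ := h
  have h1 : ∀ s' : S', ∃ (C : CommRingCat.{u}) (j : Spec C ⟶ S') (_ : IsOpenImmersion j), s' ∈ j.opensRange ∧
      P _ (j ≫ f) := by
    intro s'
    obtain ⟨U, hU, hPU⟩ := h s'
    obtain ⟨_, ⟨O, hO, rfl⟩, hxO, hle⟩ := S'.isBasis_affineOpens.exists_subset_of_mem_open hU U.2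
    refine ⟨Γ(S', O), hO.fromSpec, inferInstance, ?_, ?_⟩
    · rw [hO.opensRange_fromSpec]
      exact hxO
    · have h2 : Set.range hO.fromSpec ⊆ Set.range U.ι := by
        rw [hO.range_fromSpec, Scheme.Opens.range_ι]
        exact hle
      have h3 := hP (IsOpenImmersion.lift U.ι hO.fromSpec h2) (U.ι ≫ f) hPU
      rwa [← Category.assoc, IsOpenImmersion.lift_fac] at h3
  choose C j hj hm hPj using h1
  refine (covers_gen_of_family (P := AffP P) (fun s' => Spec (C s')) (fun s' => j s' ≫ f) ?_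
    (ofArrows_mem_fpqc f hf _ j fun s' => ⟨s', hm s'⟩)).mono (stable_affP P) ?_
  · intro s'
    exact ⟨C s', inferInstance, j s' ≫ f, hPj s', ⟨𝟙 _⟩⟩
  · rintro T ⟨V, ⟨D, _, x, hx, ⟨v⟩⟩, ⟨t⟩⟩
    exact ⟨D, inferInstance, x, hx, ⟨t ≫ v⟩⟩

/-- The intersection of two affine local properties is again an affine local property. -/
theorem Covers.affP_inter {P Q : ∀ (S' : Scheme.{u}), (S' ⟶ S) → Prop}
    (hP : ∀ {S₁ S₂ : Scheme.{u}} (g : S₂ ⟶ S₁) (f : S₁ ⟶ S), P S₁ f → P S₂ (g ≫ f))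
    (hQ : ∀ {S₁ S₂ : Scheme.{u}} (g : S₂ ⟶ S₁) (f : S₁ ⟶ S), Q S₁ f → Q S₂ (g ≫ f))
    (h : Covers (AffP P)) (h' : Covers (AffP Q)) : Covers (AffP (fun S' f => P S' f ∧ Q S' f)) where
  stable := stable_affP _
  mem := by
    obtain ⟨R, hR, hRL⟩ := (h.inter h').mem
    let Z : Sieve S :=
      { arrows := fun W r => AffP (fun S' f => P S' f ∧ Q S' f) (Over.mk r)
        downward_closed := by
          rintro Y W r hr g
          exact stable_affP _ (Over.homMk g (by simp) : Over.mk (g ≫ r) ⟶ Over.mk r) hr }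
    refine ⟨Z, ?_, fun _ _ hr => hr⟩
    refine (Scheme.fpqcTopology).transitive hR _ ?_
    intro W r hr
    obtain ⟨⟨C, _, x, hx, ⟨a⟩⟩, ⟨D, _, y, hy, ⟨b⟩⟩⟩ := hRL _ _ hr
    have h3 := Precoverage.generate_mem_toGrothendieck (Scheme.zariskiPrecoverage_le_fpqcPrecoverage _
      W.affineCover.mem₀)
    refine (Scheme.fpqcTopology).superset_covering ?_ h3
    rintro V g ⟨V', q, g', ⟨i⟩, rfl⟩
    refine ⟨_, inferInstance, W.affineCover.f i ≫ r, ⟨?_, ?_⟩, ⟨Over.homMk q (by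
      change q ≫ W.affineCover.f i ≫ r = (q ≫ W.affineCover.f i) ≫ r
      rw [Category.assoc])⟩⟩
    · have h4 : a.left ≫ x = r := Over.w a
      rw [← h4, ← Category.assoc]
      exact hP _ _ hx
    · have h4 : b.left ≫ y = r := Over.w b
      rw [← h4, ← Category.assoc]
      exact hQ _ _ hy

end K9.Glue
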