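import Groth.Agent.SGA3x.K9.NilDS
import Groth.Agent.SGA3x.K9.Glue
import Groth.Agent.Sga3B.IsoFam
import Groth.Agent.Sga3B.TorusAlgClosed

/-!
# Homomorphisms between groups of multiplicative type and surjective closed immersions

`i₀ : S₀ ⟶ S` a surjective closed immersion, `H`, `H'` groups of multiplicative type over `S` (fpqc-locally `D(M)`, `M`
arbitrary).  Homomorphisms `H ⟶ H'` over `S₀` extend uniquely to homomorphisms over `S`.
-/

set_option autoImplicit false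
universe u
open CategoryTheory MonoidalCategory CartesianMonoidalCategory MonObj GrpObj AlgebraicGeometry Limits

namespace K9.Rigid

open Groth.Agent.Sga3B Groth.Agent.Sga3B.InfConj Groth.Agent.Sga3B.BcPts Groth.Agent.Sga3B.IsoFam K9.NilDS K9.Glue

variable {S : Scheme.{u}}

section dn

variable {S' : Scheme.{u}} (x : S' ⟶ S) {H H' T : Over S} (φ : H ⊗ T ⟶ H') {Q : Over S'} (s : (Over.map x).obj Q ⟶ T)

/-- A family `φ : H ⊗ T ⟶ H'` seen over `S'`. -/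
noncomputable def dn : Red.bc x H ⊗ Q ⟶ Red.bc x H' :=
  bcEquiv x _ H' (lift ((bcEquiv x _ H).symm (fst _ _)) ((Over.map x).map (snd _ _) ≫ s) ≫ φ)

lemma lift_dn {X : Over S'} (g : X ⟶ Red.bc x H) (t : X ⟶ Q) :
    lift g t ≫ dn x φ s = bcEquiv x _ H' (lift ((bcEquiv x _ H).symm g) ((Over.map x).map t ≫ s) ≫ φ) := by
  rw [dn, ← comp_bcEquiv, ← Category.assoc, comp_lift, ← comp_bcEquiv_symm, lift_fst, ← Functor.map_comp_assoc, lift_snd]

lemma isHomFamily_dn [GrpObj H] [GrpObj H'] (hφ : AutFam.IsHomFamily H H' φ) :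
    AutFam.IsHomFamily (Red.bc x H) (Red.bc x H') (dn x φ s) := by
  intro X g₁ g₂ t
  rw [lift_dn, lift_dn, lift_dn, ← bcEquiv_mul, ← hφ]
  congr 3
  exact (bcMulEquiv x _ H).symm.map_mul _ _

end dn

lemma unfam_injective {S' : Scheme.{u}} {x : S' ⟶ S} {H H' : Over S} {φ φ' : H ⊗ Over.mk x ⟶ H'}
    (h : unfam φ = unfam φ') : φ = φ' := by
  have key : ∀ {T : Over S} (g : T ⟶ H) (v : T ⟶ Over.mk x), lift g v ≫ φ = lift g v ≫ φ' := by
    intro T g v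
    have h1 : bcEquiv x (Over.mk v.left) H ((overIso v).hom ≫ g) ≫ unfam φ =
      bcEquiv x (Over.mk v.left) H ((overIso v).hom ≫ g) ≫ unfam φ' := by rw [h]
    have e1 := comp_unfam φ (bcEquiv x (Over.mk v.left) H ((overIso v).hom ≫ g))
    have e2 := comp_unfam φ' (bcEquiv x (Over.mk v.left) H ((overIso v).hom ≫ g))
    erw [e1, e2] at h1
    have h2 := (bcEquiv x (Over.mk v.left) H').injective h1
    erw [Equiv.symm_apply_apply] at h2
    have h3 : (st (T := Over.mk x) (Over.mk v.left)) = (overIso v).hom ≫ v := by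
      ext1
      simp [st]
    erw [h3] at h2
    have h4 : lift ((overIso v).hom ≫ g) ((overIso v).hom ≫ v) = (overIso v).hom ≫ lift g v := by
      rw [comp_lift]
    erw [h4] at h2
    rw [Category.assoc, Category.assoc] at h2
    exact (cancel_epi _).mp h2
  have h5 := key (fst H (Over.mk x)) (snd _ _)
  rwa [lift_fst_snd, Category.id_comp, Category.id_comp] at h5


section thick

variable {S₀ : Scheme.{u}} (i₀ : S₀ ⟶ S) [IsClosedImmersion i₀] [Surjective i₀]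

/-- The part over `S₀` of `Spec C` is `Spec (C ⧸ J)` with `J` a nil ideal. -/
lemma exists_nil {C : Type u} [CommRing C] (x : Spec (CommRingCat.of C) ⟶ S) :
    ∃ (J : Ideal C) (_ : ∀ a ∈ J, IsNilpotent a), Nonempty ((Over.map x).obj (pt C (C ⧸ J)) ⟶ Over.mk i₀) ∧
      ∀ X : Over (Spec (CommRingCat.of C)), ((Over.map x).obj X ⟶ Over.mk i₀) → Nonempty (X ⟶ pt C (C ⧸ J)) := by
  obtain ⟨J, e, he⟩ := IsClosedImmersion.Spec_iff.mp (inferInstance : IsClosedImmersion (pullback.snd i₀ x))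
  have hs : Function.Surjective (Spec.map (CommRingCat.ofHom (Ideal.Quotient.mk J))) := by
    have h1 : Function.Surjective (pullback.snd i₀ x) := (pullback.snd i₀ x).surjective
    rw [he] at h1
    intro y
    obtain ⟨z, hz⟩ := h1 y
    exact ⟨e.hom z, by rw [← hz]; rfl⟩
  have hJ : ∀ a ∈ J, IsNilpotent a := by
    intro a ha
    have h2 : Set.range (PrimeSpectrum.comap (Ideal.Quotient.mk J)) = Set.univ := Set.range_eq_univ.mpr hs
    rw [range_comap_of_surjective _ _ Ideal.Quotient.mk_surjective,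
      PrimeSpectrum.zeroLocus_eq_univ_iff, Ideal.mk_ker] at h2
    exact mem_nilradical.mp (h2 ha)
  refine ⟨J, hJ, ⟨Over.homMk (e.inv ≫ pullback.fst i₀ x) ?_⟩, ?_⟩
  · change (e.inv ≫ pullback.fst i₀ x) ≫ i₀ = Spec.map (CommRingCat.ofHom (Ideal.Quotient.mk J)) ≫ x
    rw [Category.assoc, pullback.condition, he, ← Category.assoc, ← Category.assoc, Category.assoc e.inv,
      ← Category.assoc e.inv, e.inv_hom_id, Category.id_comp]
  · intro X t
    have h3 : t.left ≫ i₀ = X.hom ≫ x := Over.w t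
    refine ⟨Over.homMk (pullback.lift t.left X.hom h3 ≫ e.hom) ?_⟩
    change (pullback.lift t.left X.hom h3 ≫ e.hom) ≫ Spec.map (CommRingCat.ofHom (Ideal.Quotient.mk J)) = X.hom
    rw [Category.assoc, ← he, pullback.lift_snd]

omit [Surjective i₀] in
lemma hom_subsingleton {T : Over S} (a b : T ⟶ Over.mk i₀) : a = b := by
  ext1
  have h1 := Over.w a
  have h2 := Over.w b
  exact (cancel_mono i₀).mp (h1.trans h2.symm)

/-- `H` is diagonalisable over `S'`. -/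
def Split (H : Over S) [GrpObj H] (S' : Scheme.{u}) (f : S' ⟶ S) : Prop :=
  ∃ (M : Type) (_ : AddCommGroup M), Nonempty (Grp.mk (Red.bc f H) ≅ Grp.mk (Red.DS S' M))

omit [IsClosedImmersion i₀] [Surjective i₀] in
lemma Split.comp {H : Over S} [GrpObj H] {S₁ S₂ : Scheme.{u}} (g : S₂ ⟶ S₁) (f : S₁ ⟶ S) (h : Split H S₁ f) :
    Split H S₂ (g ≫ f) := by
  obtain ⟨M, _, ⟨e⟩⟩ := h
  exact ⟨M, inferInstance, ⟨BcIso.bcCompIso g f H ≪≫ BcIso.bcMapIso g e ≪≫ TorusAlgClosed.dsBcIso g M⟩⟩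

variable {H H' : Over S} [GrpObj H] [GrpObj H']

variable (H H') in
/-- `H` and `H'` are diagonalisable over `S'`. -/
def Split₂ (S' : Scheme.{u}) (f : S' ⟶ S) : Prop := Split H S' f ∧ Split H' S' f

lemma Split₂.comp {S₁ S₂ : Scheme.{u}} (g : S₂ ⟶ S₁) (f : S₁ ⟶ S) (h : Split₂ H H' S₁ f) :
    Split₂ H H' S₂ (g ≫ f) := ⟨Split.comp g f h.1, Split.comp g f h.2⟩

/-- **Local existence**. -/
theorem exists_fam {φ : H ⊗ Over.mk i₀ ⟶ H'} (hφ : AutFam.IsHomFamily H H' φ) {C : Type u} [CommRing C]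
    (x : Spec (CommRingCat.of C) ⟶ S) (hx : Split₂ H H' _ x) :
    ∃ Ψ : H ⊗ Over.mk x ⟶ H', AutFam.IsHomFamily H H' Ψ ∧
      ∀ {T : Over S} (h : T ⟶ H) (v : T ⟶ Over.mk x) (t : T ⟶ Over.mk i₀), lift h v ≫ Ψ = lift h t ≫ φ := by
  obtain ⟨⟨M, _, ⟨e⟩⟩, ⟨N, _, ⟨e'⟩⟩⟩ := hx
  obtain ⟨J, hJ, ⟨s⟩, hs⟩ := exists_nil i₀ x
  have hd := isHomFamily_dn x φ s hφ
  let φ' : Red.DS (Spec (CommRingCat.of C)) M ⊗ pt C (C ⧸ J) ⟶ Red.DS (Spec (CommRingCat.of C)) N :=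
    (e.inv.hom.hom ▷ _) ≫ dn x φ s ≫ e'.hom.hom.hom
  have hφ' : AutFam.IsHomFamily _ _ φ' := by
    intro X g₁ g₂ t
    have h1 : ∀ g : X ⟶ Red.DS (Spec (CommRingCat.of C)) M, lift g t ≫ φ' =
        (lift (g ≫ e.inv.hom.hom) t ≫ dn x φ s) ≫ e'.hom.hom.hom := by
      intro g
      rw [← Category.assoc, lift_whiskerRight, Category.assoc]
    rw [h1, h1, h1, MonObj.mul_comp, hd]
    exact MonObj.mul_comp _ _ (e'.hom.hom.hom)
  obtain ⟨ψ, hψ, hψ'⟩ := exists_lift J hJ φ' hφ'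
  let Ψ : Red.bc x H ⟶ Red.bc x H' := e.hom.hom.hom ≫ ψ ≫ e'.inv.hom.hom
  have : IsMonHom Ψ := inferInstanceAs (IsMonHom (e.hom.hom.hom ≫ ψ ≫ e'.inv.hom.hom))
  refine ⟨fam Ψ, isHomFamily_fam Ψ, ?_⟩
  intro T h v t
  rw [lift_fam, ev]
  let p := bcEquiv x (Over.mk v.left) H ((overIso v).hom ≫ h)
  obtain ⟨w⟩ := hs (Over.mk v.left) ((overIso v).hom ≫ t)
  have h2 : p ≫ Ψ = lift p w ≫ dn x φ s := by
    have h3 : lift (p ≫ e.hom.hom.hom) w ≫ fst _ _ ≫ ψ = lift (p ≫ e.hom.hom.hom) w ≫ φ' := by rw [hψ']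
    rw [lift_fst_assoc] at h3
    have h4 : p ≫ Ψ = ((p ≫ e.hom.hom.hom) ≫ ψ) ≫ e'.inv.hom.hom := by
      simp only [Ψ, Category.assoc]
    have h5 : e.hom.hom.hom ≫ e.inv.hom.hom = 𝟙 _ := congrArg (fun k => k.hom.hom) e.hom_inv_id
    have h6 : e'.hom.hom.hom ≫ e'.inv.hom.hom = 𝟙 _ := congrArg (fun k => k.hom.hom) e'.hom_inv_id
    rw [h4, h3]
    simp only [φ', Category.assoc]
    rw [h6, ← Category.assoc, lift_whiskerRight, Category.assoc, h5, Category.comp_id]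
    exact congrArg (fun y => lift p w ≫ y) (Category.comp_id _)
  change (overIso v).inv ≫ (bcEquiv x (Over.mk v.left) H').symm (p ≫ Ψ) = _
  rw [h2, lift_dn, Equiv.symm_apply_apply]
  have h7 : (bcEquiv x (Over.mk v.left) H).symm p = (overIso v).hom ≫ h := Equiv.symm_apply_apply _ _
  rw [h7, ← Category.assoc, comp_lift, Iso.inv_hom_id_assoc]
  congr 2
  exact hom_subsingleton i₀ _ _

/-- **Local uniqueness**. -/
theorem fam_eq {C : Type u} [CommRing C]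
    (x : Spec (CommRingCat.of C) ⟶ S) (hx : Split₂ H H' _ x) {Ψ Ψ' : H ⊗ Over.mk x ⟶ H'}
    (h1 : AutFam.IsHomFamily H H' Ψ) (h2 : AutFam.IsHomFamily H H' Ψ')
    (h : ∀ (T : Over S) (h : T ⟶ H) (v : T ⟶ Over.mk x), (T ⟶ Over.mk i₀) → lift h v ≫ Ψ = lift h v ≫ Ψ') : Ψ = Ψ' := by
  obtain ⟨⟨M, _, ⟨e⟩⟩, ⟨N, _, ⟨e'⟩⟩⟩ := hx
  obtain ⟨J, hJ, ⟨s⟩, hs⟩ := exists_nil i₀ x
  apply unfam_injective
  have := isMonHom_unfam h1
  have := isMonHom_unfam h2
  have := isMonHom_unfam h1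
  let ψ : Red.DS (Spec (CommRingCat.of C)) M ⟶ Red.DS (Spec (CommRingCat.of C)) N :=
    e.inv.hom.hom ≫ unfam (T := Over.mk x) Ψ ≫ e'.hom.hom.hom
  let ψ' : Red.DS (Spec (CommRingCat.of C)) M ⟶ Red.DS (Spec (CommRingCat.of C)) N :=
    e.inv.hom.hom ≫ unfam (T := Over.mk x) Ψ' ≫ e'.hom.hom.hom
  have i1 : IsMonHom ψ := inferInstanceAs (IsMonHom (e.inv.hom.hom ≫ unfam (T := Over.mk x) Ψ ≫ e'.hom.hom.hom))
  have i2 : IsMonHom ψ' := inferInstanceAs (IsMonHom (e.inv.hom.hom ≫ unfam (T := Over.mk x) Ψ' ≫ e'.hom.hom.hom))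
  have key : ψ = ψ' := by
    refine hom_eq J hJ ?_
    have h3 : ∀ (X : Over (Spec (CommRingCat.of C))) (p : X ⟶ Red.bc x H), (X ⟶ pt C (C ⧸ J)) →
        p ≫ unfam (T := Over.mk x) Ψ = p ≫ unfam (T := Over.mk x) Ψ' := by
      intro X p w
      have e1 := comp_unfam (T := Over.mk x) Ψ p
      have e2 := comp_unfam (T := Over.mk x) Ψ' p
      rw [e1, e2]
      congr 1
      exact h _ _ _ ((Over.map x).map w ≫ s)
    have h4 := h3 _ (fst (Red.DS (Spec (CommRingCat.of C)) M) (pt C (C ⧸ J)) ≫ e.inv.hom.hom) (snd _ _)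
    calc fst _ (pt C (C ⧸ J)) ≫ ψ = ((fst _ (pt C (C ⧸ J)) ≫ e.inv.hom.hom) ≫ unfam (T := Over.mk x) Ψ) ≫ e'.hom.hom.hom := by
          simp only [ψ, Category.assoc]
      _ = fst _ (pt C (C ⧸ J)) ≫ ψ' := by
          rw [h4]
          simp only [ψ', Category.assoc]
  have h5 : e.hom.hom.hom ≫ e.inv.hom.hom = 𝟙 _ := congrArg (fun k => k.hom.hom) e.hom_inv_id
  have h6 : e'.hom.hom.hom ≫ e'.inv.hom.hom = 𝟙 _ := congrArg (fun k => k.hom.hom) e'.hom_inv_id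
  have h7 : ∀ χ : Red.bc x H ⟶ Red.bc x H', χ = e.hom.hom.hom ≫ (e.inv.hom.hom ≫ χ ≫ e'.hom.hom.hom) ≫ e'.inv.hom.hom := by
    intro χ
    rw [Category.assoc, Category.assoc, h6, Category.comp_id, ← Category.assoc, h5, Category.id_comp]
  rw [h7 (unfam (T := Over.mk x) Ψ), h7 (unfam (T := Over.mk x) Ψ')]
  exact congrArg (fun y => e.hom.hom.hom ≫ y ≫ e'.inv.hom.hom) key

variable (hc : Covers (AffP (Split₂ H H')))

include hc

/-- **Uniqueness of extensions**. -/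
theorem hom_eq {ψ ψ' : H ⟶ H'} [IsMonHom ψ] [IsMonHom ψ']
    (h : ∀ (T : Over S) (h : T ⟶ H), (T ⟶ Over.mk i₀) → h ≫ ψ = h ≫ ψ') : ψ = ψ' := by
  refine hc.hom_ext fun T t hT => ?_
  obtain ⟨C, _, x, hx, ⟨v⟩⟩ := hT
  have h1 : fst H (Over.mk x) ≫ ψ = fst H (Over.mk x) ≫ ψ' :=
    fam_eq i₀ x hx (isHomFamily_fst ψ) (isHomFamily_fst ψ') fun X g w t₀ => by
      rw [lift_fst_assoc, lift_fst_assoc]
      exact h _ _ t₀
  have h2 := congrArg (fun y => lift t v ≫ y) h1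
  simpa only [lift_fst_assoc] using h2

/-- **Existence of extensions**. -/
theorem exists_lift {φ : H ⊗ Over.mk i₀ ⟶ H'} (hφ : AutFam.IsHomFamily H H' φ) :
    ∃ ψ : H ⟶ H', IsMonHom ψ ∧ ∀ {T : Over S} (h : T ⟶ H) (t : T ⟶ Over.mk i₀), h ≫ ψ = lift h t ≫ φ := by
  choose Ψ hΨ hΨ' using fun (C : Type u) (hC : CommRing C) (x : Spec (CommRingCat.of C) ⟶ S) (hx : Split₂ H H' _ x) =>
    exists_fam i₀ hφ x hx
  -- independence of the choice
  have ind : ∀ (C : Type u) (hC : CommRing C) (x : Spec (CommRingCat.of C) ⟶ S) (hx : Split₂ H H' _ x)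
      (C' : Type u) (hC' : CommRing C') (x' : Spec (CommRingCat.of C') ⟶ S) (hx' : Split₂ H H' _ x')
      {T : Over S} (h : T ⟶ H) (v : T ⟶ Over.mk x) (v' : T ⟶ Over.mk x'),
      lift h v ≫ Ψ C hC x hx = lift h v' ≫ Ψ C' hC' x' hx' := by
    intro C hC x hx C' hC' x' hx' T h v v'
    have hz' : ∀ (D : CommRingCat.{u}) (y : Spec D ⟶ S) (g : Over.mk y ⟶ T),
        g ≫ lift h v ≫ Ψ C hC x hx = g ≫ lift h v' ≫ Ψ C' hC' x' hx' := by
      intro D y g
      have hy : Split₂ H H' (Spec (CommRingCat.of D)) y := by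
        have := Split₂.comp (g ≫ v).left x hx
        have h1 : (g ≫ v).left ≫ x = y := Over.w (g ≫ v)
        rwa [h1] at this
      have h2 : (H ◁ (g ≫ v)) ≫ Ψ C hC x hx = (H ◁ (g ≫ v')) ≫ Ψ C' hC' x' hx' := by
        refine fam_eq (C := D) i₀ y hy (isHomFamily_pull (hΨ C hC x hx) _) (isHomFamily_pull (hΨ C' hC' x' hx') _) ?_
        intro X a w t₀
        rw [lift_whiskerLeft_assoc, lift_whiskerLeft_assoc, hΨ' C hC x hx _ _ t₀, hΨ' C' hC' x' hx' _ _ t₀]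
      have h3 : lift (g ≫ h) (𝟙 _) ≫ (H ◁ (g ≫ v)) ≫ Ψ C hC x hx =
          lift (g ≫ h) (𝟙 _) ≫ (H ◁ (g ≫ v')) ≫ Ψ C' hC' x' hx' := by rw [h2]
      rw [lift_whiskerLeft_assoc, lift_whiskerLeft_assoc, Category.id_comp, Category.id_comp, ← comp_lift,
        ← comp_lift, Category.assoc, Category.assoc] at h3
      exact h3
    ext1
    refine Scheme.Cover.hom_ext (T.left.affineCover) _ _ fun i => ?_
    exact congrArg (fun m => m.left) (hz' _ (T.left.affineCover.f i ≫ T.hom) (Over.homMk (T.left.affineCover.f i)))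
  have val : ∀ (T : Over S) (_ : T ⟶ H) (_ : AffP (Split₂ H H') T), ∃ a : T ⟶ H', ∀ (C : Type u) (hC : CommRing C)
      (x : Spec (CommRingCat.of C) ⟶ S) (hx : Split₂ H H' _ x) (v : T ⟶ Over.mk x),
      a = lift ‹T ⟶ H› v ≫ Ψ C hC x hx := by
    intro T h hT
    obtain ⟨C, hC, x, hx, ⟨v⟩⟩ := hT
    exact ⟨lift h v ≫ Ψ C hC x hx, fun C' hC' x' hx' v' => ind _ _ _ _ _ _ _ _ _ _ _⟩
  choose a ha using val
  obtain ⟨ψ, hψ, -⟩ := hc.existsUnique_glue (T := H) (Y := H') a (by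
    intro T' T'' r t hT' hT''
    obtain ⟨C, hC, x, hx, ⟨v⟩⟩ := hT'
    rw [ha T' t ⟨C, hC, x, hx, ⟨v⟩⟩ C hC x hx v, ha T'' (r ≫ t) hT'' C hC x hx (r ≫ v), ← Category.assoc, comp_lift])
  have hpt : ∀ {T : Over S} (h : T ⟶ H) (C : Type u) (hC : CommRing C) (x : Spec (CommRingCat.of C) ⟶ S)
      (hx : Split₂ H H' _ x) (v : T ⟶ Over.mk x), h ≫ ψ = lift h v ≫ Ψ C hC x hx := by
    intro T h C hC x hx v
    rw [hψ T h ⟨C, hC, x, hx, ⟨v⟩⟩]
    exact ha _ _ _ C hC x hx v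
  refine ⟨ψ, isMonHom_of_mul _ ?_, ?_⟩
  · intro T x y
    refine hc.hom_ext fun T' t hT' => ?_
    obtain ⟨C, hC, z, hz, ⟨v⟩⟩ := hT'
    rw [← Category.assoc, MonObj.comp_mul, MonObj.comp_mul, hpt _ C hC z hz v, ← Category.assoc, ← Category.assoc,
      hpt _ C hC z hz v, hpt _ C hC z hz v]
    exact hΨ C hC z hz _ _ _ _
  · intro T h t
    refine hc.hom_ext fun T' t' hT' => ?_
    obtain ⟨C, hC, z, hz, ⟨v⟩⟩ := hT'
    rw [← Category.assoc, hpt _ C hC z hz v, ← Category.assoc, comp_lift]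
    exact hΨ' C hC z hz _ _ _

end thick

/-- Two groups of multiplicative type are simultaneously diagonalisable over the members of an fpqc covering. -/
theorem covers_split₂ {H H' : Over S} [GrpObj H] [GrpObj H']
    (hH : TwC.Locally S TwC.Topology.fpqc (fun S' f => ∃ (M : Type) (_ : AddCommGroup M),
      Nonempty (Grp.mk (Red.bc f H) ≅ Grp.mk (Red.DS S' M))))
    (hH' : TwC.Locally S TwC.Topology.fpqc (fun S' f => ∃ (M : Type) (_ : AddCommGroup M),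
      Nonempty (Grp.mk (Red.bc f H') ≅ Grp.mk (Red.DS S' M)))) : Covers (AffP (Split₂ H H')) :=
  Covers.affP_inter (P := Split H) (Q := Split H') Split.comp Split.comp (covers_of_fpqc Split.comp hH)
    (covers_of_fpqc Split.comp hH')

end K9.Rigid
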