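import Groth.Agent.Sga3B.TorTransp
import Groth.Agent.Sga3B.DSAff
import Groth.Agent.Sga3A.GLHom
import Groth.Agent.Sga3A.BCIso

/-!
# Families of homomorphisms `D(M) ⟶ D(N)` over an affine base, and nil ideals

`C` a ring, `E` a `C`-algebra.  A family of homomorphisms `D(M) ⟶ D(N)` over `Spec C` parametrised by `Spec E` is given by a
homomorphism from `N` to the group-like elements of `E[M]` (`famCh`).

* `exists_lift`: for a nil ideal `J`, families over `Spec (C ⧸ J)` extend to homomorphisms over `Spec C`;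
* `hom_eq`: uniqueness.
-/

set_option autoImplicit false
universe u
open CategoryTheory MonoidalCategory CartesianMonoidalCategory MonObj GrpObj AlgebraicGeometry Limits
open scoped TensorProduct

namespace K9.NilDS

open Groth.Agent.Sga3B Groth.Agent.Sga3B.DSPts Groth.Agent.Sga3B.InfConj Groth.Agent.Sga3B.TorTransp
open Groth.Agent.Books.AffBridge Groth.Agent.Sga3B.AffPts Groth.Agent.Sga3B.DSAff
open Groth.Agent.Sga3A

variable {C : Type u} [CommRing C] {M N : Type} [AddCommGroup M] [AddCommGroup N]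

lemma one_mul_one {B : Scheme.{u}} {X : Over B} (G : Over B) [GrpObj G] : (1 : X ⟶ G) * 1 = 1 := _root_.mul_one _

lemma eq_one_of_eq_mul {B : Scheme.{u}} {X G : Over B} [GrpObj G] {x : X ⟶ G} (h : x = x * x) : x = 1 :=
  left_eq_mul.mp h

/-- A family of homomorphisms preserves the unit. -/
lemma lift_one_comp {B : Scheme.{u}} {G H T : Over B} [GrpObj G] [GrpObj H] {φ : G ⊗ T ⟶ H}
    (hφ : AutFam.IsHomFamily G H φ) {X : Over B} (t : X ⟶ T) : lift 1 t ≫ φ = 1 := by
  apply eq_one_of_eq_mul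
  conv_lhs => rw [← one_mul_one G, hφ]

section char

variable {E : Type u} [CommRing E] [Algebra C E]

/-- the character of an `E`-valued point of `D(N)` -/
noncomputable def ptCh (x : pt C E ⟶ Red.DS (Spec (CommRingCat.of C)) N) : Multiplicative N →* E :=
  MonoidHom.comp (RingHom.toMonoidHom (Scheme.ΓSpecIso (.of E)).hom.hom : Γ(Spec (.of E), ⊤) →* E) (dsChar x)

lemma ptCh_charPt (χ : Multiplicative N →* E) : ptCh (charPt (C := C) χ) = χ := by
  refine MonoidHom.ext fun n => ?_
  change (Scheme.ΓSpecIso (.of E)).hom.hom (dsChar (dsEquiv (pt C E) N _) n) = χ n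
  rw [dsChar_dsEquiv]
  change (Scheme.ΓSpecIso (.of E)).hom ((Scheme.ΓSpecIso (.of E)).inv (χ n)) = χ n
  simp

lemma charPt_ptCh (x : pt C E ⟶ Red.DS (Spec (CommRingCat.of C)) N) : charPt (ptCh x) = x := by
  have h : (gPt C E).toMonoidHom.comp (ptCh x) = dsChar x := by
    refine MonoidHom.ext fun n => ?_
    change (Scheme.ΓSpecIso (.of E)).inv ((Scheme.ΓSpecIso (.of E)).hom (dsChar x n)) = dsChar x n
    simp
  rw [charPt, h, dsEquiv_dsChar]

lemma ptCh_injective {x y : pt C E ⟶ Red.DS (Spec (CommRingCat.of C)) N} (h : ptCh x = ptCh y) : x = y := by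
  rw [← charPt_ptCh x, h, charPt_ptCh]

lemma ptCh_comp {E' : Type u} [CommRing E'] [Algebra C E'] (j : E →ₐ[C] E')
    (x : pt C E ⟶ Red.DS (Spec (CommRingCat.of C)) N) : ptCh (ptMap j ≫ x) = (j : E →* E').comp (ptCh x) := by
  conv_lhs => rw [← charPt_ptCh x, ptMap_charPt]
  rw [ptCh_charPt]

lemma ptCh_mul (x y : pt C E ⟶ Red.DS (Spec (CommRingCat.of C)) N) : ptCh (x * y) = ptCh x * ptCh y := by
  rw [← charPt_ptCh x, ← charPt_ptCh y, ← charPt_mul, ptCh_charPt, ptCh_charPt, ptCh_charPt]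

lemma ptCh_one : ptCh (1 : pt C E ⟶ Red.DS (Spec (CommRingCat.of C)) N) = 1 := by
  have h := ptCh_mul (1 : pt C E ⟶ Red.DS (Spec (CommRingCat.of C)) N) 1
  have e1 : (1 : pt C E ⟶ Red.DS (Spec (CommRingCat.of C)) N) * 1 = 1 := one_mul_one _
  rw [e1] at h
  refine MonoidHom.ext fun n => ?_
  have h1 : IsUnit (ptCh (1 : pt C E ⟶ Red.DS (Spec (CommRingCat.of C)) N) n) :=
    (Group.isUnit n).map _
  have h2 := DFunLike.congr_fun h n
  rw [MonoidHom.mul_apply] at h2
  change _ = 1
  exact (h1.mul_left_cancel (by rw [← h2, _root_.mul_one]))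

end char

section fam

variable (C M) (E : Type u) [CommRing E] [Algebra C E]

/-- the comparison `Spec E[M] ⟶ D(M) ⊗ Spec E` -/
noncomputable def pr : pt C (MonoidAlgebra E (Multiplicative M)) ⟶ Red.DS (Spec (CommRingCat.of C)) M ⊗ pt C E :=
  lift (uchar E M) (ptMap (inc E M))

variable {C M E}

lemma exists_section : ∃ h : Red.DS (Spec (CommRingCat.of C)) M ⊗ pt C E ⟶
    pt C (MonoidAlgebra E (Multiplicative M)), h ≫ pr C M E = 𝟙 _ := by
  obtain ⟨h, h1, h2⟩ := exists_pair (R := C) (M := M) (snd _ (pt C E)) (fst (Red.DS (Spec (CommRingCat.of C)) M) _)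
  refine ⟨h, ?_⟩
  rw [pr, comp_lift, h1, h2]
  exact lift_fst_snd

/-- the character attached to a family -/
noncomputable def famCh (φ : Red.DS (Spec (CommRingCat.of C)) M ⊗ pt C E ⟶ Red.DS (Spec (CommRingCat.of C)) N) :
    Multiplicative N →* MonoidAlgebra E (Multiplicative M) := ptCh (pr C M E ≫ φ)

lemma famCh_injective {φ φ' : Red.DS (Spec (CommRingCat.of C)) M ⊗ pt C E ⟶ Red.DS (Spec (CommRingCat.of C)) N}
    (h : famCh φ = famCh φ') : φ = φ' := by
  obtain ⟨s, hs⟩ := exists_section (C := C) (M := M) (E := E)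
  have h1 := ptCh_injective h
  rw [← Category.id_comp φ, ← hs, Category.assoc, h1, ← Category.assoc, hs, Category.id_comp]

lemma famCh_pull {E' : Type u} [CommRing E'] [Algebra C E'] (j : E →ₐ[C] E')
    (φ : Red.DS (Spec (CommRingCat.of C)) M ⊗ pt C E ⟶ Red.DS (Spec (CommRingCat.of C)) N) (n : Multiplicative N) :
    famCh ((_ ◁ ptMap j) ≫ φ) n = MonoidAlgebra.mapAlgHom (Multiplicative M) j (famCh φ n) := by
  have h : pr C M E' ≫ (_ ◁ ptMap j) = ptMap (MonoidAlgebra.mapAlgHom (Multiplicative M) j) ≫ pr C M E := by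
    rw [pr, pr, lift_whiskerLeft, comp_lift, ptMap_mapAlgHom_inc, ptMap_mapAlgHom_uchar]
  unfold famCh
  rw [← Category.assoc, h, Category.assoc, ptCh_comp]
  rfl

variable {K : Type u} [CommRing K] [Algebra C K] [Algebra E K] [IsScalarTower C E K]

/-- points of `D(M) ⊗ Spec E` with values in `K` -/
lemma lift_charPt (χ : Multiplicative M →* K) :
    lift (charPt (C := C) χ) (ptMap (IsScalarTower.toAlgHom C E K)) =
      ptMap ((MonoidAlgebra.lift E K (Multiplicative M) χ).restrictScalars C) ≫ pr C M E := by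
  rw [pr, comp_lift, uchar, ptMap_charPt, ptMap_comp]
  congr 2
  · ext m
    simp [MonoidAlgebra.of]
  · ext e
    simp [inc, Algebra.algebraMap_eq_smul_one]

lemma ptCh_lift (φ : Red.DS (Spec (CommRingCat.of C)) M ⊗ pt C E ⟶ Red.DS (Spec (CommRingCat.of C)) N)
    (χ : Multiplicative M →* K) (n : Multiplicative N) :
    ptCh (lift (charPt (C := C) χ) (ptMap (IsScalarTower.toAlgHom C E K)) ≫ φ) n =
      MonoidAlgebra.lift E K (Multiplicative M) χ (famCh φ n) := by
  rw [lift_charPt, Category.assoc, ptCh_comp]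
  rfl

lemma isGroupLikeElem_famCh {φ : Red.DS (Spec (CommRingCat.of C)) M ⊗ pt C E ⟶ Red.DS (Spec (CommRingCat.of C)) N}
    (hφ : AutFam.IsHomFamily _ _ φ) (n : Multiplicative N) : IsGroupLikeElem E (famCh φ n) where
  counit_eq_one := by
    have h1 : (lift (1 : pt C E ⟶ Red.DS (Spec (CommRingCat.of C)) M) (ptMap (IsScalarTower.toAlgHom C E E)) ≫ φ) = 1 :=
      lift_one_comp (H := Red.DS (Spec (CommRingCat.of C)) N) hφ (ptMap (IsScalarTower.toAlgHom C E E))
    have h2 := ptCh_lift (K := E) φ (1 : Multiplicative M →* E) n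
    have h3 : charPt (C := C) (1 : Multiplicative M →* E) = 1 := by
      rw [← ptCh_one (C := C) (N := M) (E := E), charPt_ptCh]
    rw [show charPt (C := C) (1 : Multiplicative M →* E) = 1 from h3, h1, ptCh_one] at h2
    change Bialgebra.counitAlgHom E (MonoidAlgebra E (Multiplicative M)) _ = 1
    have h4 : Bialgebra.counitAlgHom E (MonoidAlgebra E (Multiplicative M)) =
        MonoidAlgebra.lift E E (Multiplicative M) 1 := by
      ext m
      simp
    rw [h4, ← h2]
    rfl
  comul_eq_tmul_self := by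
    let K := MonoidAlgebra E (Multiplicative M) ⊗[E] MonoidAlgebra E (Multiplicative M)
    let χ₁ : Multiplicative M →* K :=
      ((Algebra.TensorProduct.includeLeft : _ →ₐ[E] K) : _ →* K).comp (MonoidAlgebra.of E (Multiplicative M))
    let χ₂ : Multiplicative M →* K :=
      ((Algebra.TensorProduct.includeRight : _ →ₐ[E] K) : _ →* K).comp (MonoidAlgebra.of E (Multiplicative M))
    have h := congrArg (fun f => ptCh f n) (hφ _ (charPt (C := C) χ₁) (charPt χ₂) (ptMap (IsScalarTower.toAlgHom C E K)))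
    simp only [ptCh_mul, MonoidHom.mul_apply] at h
    rw [← charPt_mul, ptCh_lift, ptCh_lift, ptCh_lift] at h
    have h1 : MonoidAlgebra.lift E K (Multiplicative M) χ₁ = Algebra.TensorProduct.includeLeft := by
      ext m
      simp [χ₁, MonoidAlgebra.of]
      rfl
    have h2 : MonoidAlgebra.lift E K (Multiplicative M) χ₂ = Algebra.TensorProduct.includeRight := by
      ext m
      simp [χ₂, MonoidAlgebra.of]
      rfl
    have h3 : MonoidAlgebra.lift E K (Multiplicative M) (χ₁ * χ₂) = Bialgebra.comulAlgHom E _ := by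
      ext m
      simp [χ₁, χ₂, MonoidAlgebra.of]
      rw [Bialgebra.comulAlgHom_apply, MonoidAlgebra.comul_single]
      simp
      exact (Algebra.TensorProduct.tmul_mul_tmul _ _ _ _).trans (by simp)
    rw [h1, h2, h3, Bialgebra.comulAlgHom_apply] at h
    rw [h]
    exact (Algebra.TensorProduct.tmul_mul_tmul _ _ _ _).trans (by simp)

/-- The hypothesis on families is inherited by `fst ≫ ψ`. -/
lemma isHomFamily_fst {B : Scheme.{u}} {G H T : Over B} [GrpObj G] [GrpObj H] (ψ : G ⟶ H) [IsMonHom ψ] :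
    AutFam.IsHomFamily G H (fst G T ≫ ψ) := by
  intro X g₁ g₂ t
  rw [lift_fst_assoc, lift_fst_assoc, lift_fst_assoc, MonObj.mul_comp]

end fam

section main

variable (J : Ideal C) (hJ : ∀ x ∈ J, IsNilpotent x)

/-- the character of a homomorphism -/
noncomputable abbrev homCh (ψ : Red.DS (Spec (CommRingCat.of C)) M ⟶ Red.DS (Spec (CommRingCat.of C)) N) :
    Multiplicative N →* MonoidAlgebra C (Multiplicative M) := famCh (C := C) (E := C) (fst _ _ ≫ ψ)

lemma famCh_fst (E : Type u) [CommRing E] [Algebra C E]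
    (ψ : Red.DS (Spec (CommRingCat.of C)) M ⟶ Red.DS (Spec (CommRingCat.of C)) N) (n : Multiplicative N) :
    famCh (C := C) (E := E) (fst _ _ ≫ ψ) n =
      MonoidAlgebra.mapAlgHom (Multiplicative M) (Algebra.ofId C E) (homCh ψ n) := by
  rw [← famCh_pull, ← Category.assoc, whiskerLeft_fst]

lemma homCh_injective {ψ ψ' : Red.DS (Spec (CommRingCat.of C)) M ⟶ Red.DS (Spec (CommRingCat.of C)) N}
    (h : homCh ψ = homCh ψ') : ψ = ψ' := by
  have h1 := famCh_injective h
  have h2 : ∀ χ : Red.DS (Spec (CommRingCat.of C)) M ⟶ Red.DS (Spec (CommRingCat.of C)) N,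
      χ = lift (𝟙 _) (Over.homMk (Red.DS (Spec (CommRingCat.of C)) M).hom (by
        change _ ≫ Spec.map (𝟙 _) = _
        rw [Spec.map_id, Category.comp_id])) ≫ fst _ (pt C C) ≫ χ := by
    intro χ
    rw [lift_fst_assoc, Category.id_comp]
  rw [h2 ψ, h1, ← h2 ψ']

lemma mapAlgHom_quot_eq_zero {x : MonoidAlgebra C (Multiplicative M)}
    (h : MonoidAlgebra.mapAlgHom (Multiplicative M) (Algebra.ofId C (C ⧸ J)) x = 0) :
    x ∈ (J • ⊤ : Submodule C (MonoidAlgebra C (Multiplicative M))) := by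
  rw [GLBasic.mem_smul_top_iff_coeff]
  intro m
  have h1 := congrArg (fun y => y.coeff m) h
  rw [← Ideal.Quotient.eq_zero_iff_mem]
  simpa using h1

section homOf

variable (G : Multiplicative N →* MonoidAlgebra C (Multiplicative M)) (hG : ∀ n, IsGroupLikeElem C (G n))

/-- the homomorphism attached to a homomorphism from `N` to the group-like elements of `C[M]` -/
noncomputable def homOf : Red.DS (Spec (CommRingCat.of C)) M ⟶ Red.DS (Spec (CommRingCat.of C)) N :=
  dsTo C M ≫ specMap C (GLHom.liftMA G hG : MonoidAlgebra C (Multiplicative N) →ₐ[C] MonoidAlgebra C (Multiplicative M)) ≫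
    dsFrom C N

lemma isMonHom_homOf : IsMonHom (homOf G hG) := by
  have := isMonHom_specMap C (GLHom.liftMA G hG)
  exact inferInstanceAs (IsMonHom (dsTo C M ≫ specMap C (GLHom.liftMA G hG : MonoidAlgebra C (Multiplicative N) →ₐ[C]
    MonoidAlgebra C (Multiplicative M)) ≫ dsFrom C N))

lemma fnChar_comp_homOf {T : Over (Spec (CommRingCat.of C))} (t : T ⟶ Red.DS (Spec (CommRingCat.of C)) M)
    (n : Multiplicative N) : fnChar (t ≫ homOf G hG) n = chAlg (R := C) (fnChar t) (G n) := by
  have h1 : (t ≫ homOf G hG) ≫ dsTo C N = affPt T ((chAlg (fnChar t)).comp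
      (GLHom.liftMA G hG : MonoidAlgebra C (Multiplicative N) →ₐ[C] MonoidAlgebra C (Multiplicative M))) := by
    rw [homOf, Category.assoc, Category.assoc, Category.assoc, dsFrom_dsTo, Category.comp_id, ← Category.assoc,
      comp_dsTo, affPt_specMap]
  rw [comp_dsTo] at h1
  have h2 := (affPt_bijective T).1 h1
  have h3 := DFunLike.congr_fun h2 (MonoidAlgebra.single n 1)
  simpa using h3

lemma famCh_homOf (E : Type u) [CommRing E] [Algebra C E] (n : Multiplicative N) :
    famCh (C := C) (E := E) (fst _ _ ≫ homOf G hG) n =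
      MonoidAlgebra.mapAlgHom (Multiplicative M) (Algebra.ofId C E) (G n) := by
  have h1 : pr C M E ≫ fst _ _ ≫ homOf G hG = uchar E M ≫ homOf G hG := by
    rw [pr, lift_fst_assoc]
  have h2 : famCh (C := C) (E := E) (fst _ _ ≫ homOf G hG) n =
      fnSpec (R := C) (MonoidAlgebra E (Multiplicative M)) (fnChar (uchar E M ≫ homOf G hG) n) := by
    unfold famCh
    rw [h1]
    rfl
  rw [h2, fnChar_comp_homOf]
  have h3 : ((fnSpec (R := C) (MonoidAlgebra E (Multiplicative M))).toAlgHom).comp (chAlg (R := C) (fnChar (uchar E M))) =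
      MonoidAlgebra.mapAlgHom (Multiplicative M) (Algebra.ofId C E) := by
    rw [comp_chAlg]
    ext m
    have h4 := DFunLike.congr_fun (ptCh_charPt (C := C) (MonoidAlgebra.of E (Multiplicative M))) m
    have h5 : fnSpec (R := C) (MonoidAlgebra E (Multiplicative M)) (fnChar (uchar E M) m) =
        MonoidAlgebra.of E (Multiplicative M) m := h4
    simp only [MonoidHom.coe_comp, Function.comp_apply, MonoidAlgebra.lift_single, one_smul]
    refine (congrArg (fun y : MonoidAlgebra E (Multiplicative M) => y.coeff _) h5).trans ?_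
    simp [MonoidAlgebra.of]
  exact DFunLike.congr_fun h3 (G n)

end homOf

include hJ

/-- **Uniqueness**. -/
theorem hom_eq {ψ ψ' : Red.DS (Spec (CommRingCat.of C)) M ⟶ Red.DS (Spec (CommRingCat.of C)) N}
    [IsMonHom ψ] [IsMonHom ψ']
    (h : fst _ (pt C (C ⧸ J)) ≫ ψ = fst _ (pt C (C ⧸ J)) ≫ ψ') : ψ = ψ' := by
  apply homCh_injective
  refine MonoidHom.ext fun n => ?_
  have h1 : famCh (C := C) (E := C ⧸ J) (fst _ _ ≫ ψ) n = famCh (C := C) (E := C ⧸ J) (fst _ _ ≫ ψ') n := by rw [h]
  rw [famCh_fst (C ⧸ J) ψ, famCh_fst (C ⧸ J) ψ', ← sub_eq_zero, ← map_sub] at h1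
  exact GLLift.eq_of_sub_mem_monoidAlgebra hJ (isGroupLikeElem_famCh (isHomFamily_fst ψ) n)
    (isGroupLikeElem_famCh (isHomFamily_fst ψ') n) (mapAlgHom_quot_eq_zero J h1)

/-- **Existence**. -/
theorem exists_lift (φ : Red.DS (Spec (CommRingCat.of C)) M ⊗ pt C (C ⧸ J) ⟶ Red.DS (Spec (CommRingCat.of C)) N)
    (hφ : AutFam.IsHomFamily _ _ φ) :
    ∃ ψ : Red.DS (Spec (CommRingCat.of C)) M ⟶ Red.DS (Spec (CommRingCat.of C)) N, IsMonHom ψ ∧
      fst _ _ ≫ ψ = φ := by
  have hbc : ∀ x : MonoidAlgebra C (Multiplicative M),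
      BCIso.scalarBialg C (C ⧸ J) (Multiplicative M) (1 ⊗ₜ x) =
        MonoidAlgebra.mapAlgHom (Multiplicative M) (Algebra.ofId C (C ⧸ J)) x := by
    intro x
    induction x using MonoidAlgebra.induction_linear with
    | zero => simp
    | add x y hx hy => rw [TensorProduct.tmul_add, map_add, map_add, hx, hy]
    | single m r => 
      rw [BCIso.scalarBialg_tmul_single]
      simp
  let g : Multiplicative N →* (C ⧸ J) ⊗[C] MonoidAlgebra C (Multiplicative M) :=
    MonoidHom.comp ((BCIso.scalarBialg C (C ⧸ J) (Multiplicative M)).symm : _ →* _) (famCh φ)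
  obtain ⟨G, hG, hGg⟩ := GLHom.exists_lift_hom (GLLift.glExist_monoidAlgebra (R := C) (Multiplicative M))
    (GLLift.glUniq_monoidAlgebra (R := C) (Multiplicative M)) hJ g
    (fun n => (isGroupLikeElem_famCh hφ n).map (BCIso.scalarBialg C (C ⧸ J) (Multiplicative M)).symm)
  refine ⟨homOf G hG, isMonHom_homOf G hG, ?_⟩
  apply famCh_injective
  refine MonoidHom.ext fun n => ?_
  rw [famCh_homOf, ← hbc, hGg n]
  exact (BCIso.scalarBialg C (C ⧸ J) (Multiplicative M)).apply_symm_apply _

end main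

end K9.NilDS
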