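import Groth.Agent.Pi1.H384.GeomConn
import Groth.Prelude.Def_Red

/-!
# Geometric connectedness from the standard geometric points
-/

set_option autoImplicit false
universe u
open CategoryTheory MonoidalCategory CartesianMonoidalCategory MonObj GrpObj AlgebraicGeometry Limits

namespace K9.GeomConn

/-- A geometric point factors through the standard one at its image. -/
theorem exists_factor {S : Scheme.{u}} {K : Type u} [Field K] [IsAlgClosed K] (y : Spec (CommRingCat.of K) ⟶ S) (s : S)
    (hs : y (IsLocalRing.closedPoint K) = s) :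
    ∃ θ : Spec (CommRingCat.of K) ⟶ Spec (CommRingCat.of (AlgebraicClosure (S.residueField s))), θ ≫ Red.geomPt s = y := by
  obtain ⟨⟨s', φ⟩, rfl⟩ := (Scheme.SpecToEquivOfField K S).symm.surjective y
  have hs' : s' = s := by
    rw [← hs]
    simp [Scheme.SpecToEquivOfField, Scheme.fromSpecResidueField_apply]
  subst hs'
  let _ : Algebra (S.residueField s') K := φ.hom.toAlgebra
  let l : AlgebraicClosure (S.residueField s') →ₐ[S.residueField s'] K := IsAlgClosed.lift
  refine ⟨Spec.map (CommRingCat.ofHom l.toRingHom), ?_⟩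
  change Spec.map _ ≫ Spec.map _ ≫ S.fromSpecResidueField s' = Spec.map φ ≫ S.fromSpecResidueField s'
  rw [← Category.assoc, ← Spec.map_comp]
  congr 2
  ext a
  exact l.commutes a

/-- Geometric connectedness can be checked at the standard geometric points. -/
theorem of_geomPt {X S : Scheme.{u}} (π : X ⟶ S) (h : ∀ s : S, ConnectedSpace ↥(pullback π (Red.geomPt s))) :
    GeometricallyConnected π := by
  refine ⟨fun K _ y Z fst snd hp => ?_⟩
  let Ω := AlgebraicClosure K
  let c : Spec (CommRingCat.of Ω) ⟶ Spec (CommRingCat.of K) := Spec.map (CommRingCat.ofHom (algebraMap K Ω))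
  obtain ⟨s, hs⟩ : ∃ s, (c ≫ y) (IsLocalRing.closedPoint Ω) = s := ⟨_, rfl⟩
  obtain ⟨θ, hθ⟩ := exists_factor (c ≫ y) s hs
  have := h s
  have h1 : GeometricallyConnected (pullback.snd π (Red.geomPt s)) := Groth.Agent.Pi1.H384.GeomConn.geometricallyConnected _
  have h2 : ConnectedSpace ↥(pullback (pullback.snd π (Red.geomPt s)) θ) :=
    GeometricallyConnected.geometrically_connectedSpace (f := pullback.snd π (Red.geomPt s)) θ _ _ (.of_hasPullback _ _)
  have hq1 : IsPullback (pullback.fst (pullback.snd π (Red.geomPt s)) θ ≫ pullback.fst π (Red.geomPt s))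
      (pullback.snd (pullback.snd π (Red.geomPt s)) θ) π (c ≫ y) := by
    rw [← hθ]
    exact (IsPullback.of_hasPullback (pullback.snd π (Red.geomPt s)) θ).paste_horiz
      (IsPullback.of_hasPullback π (Red.geomPt s))
  let q : pullback (pullback.snd π (Red.geomPt s)) θ ⟶ Z :=
    hp.lift (pullback.fst (pullback.snd π (Red.geomPt s)) θ ≫ pullback.fst π (Red.geomPt s))
      (pullback.snd (pullback.snd π (Red.geomPt s)) θ ≫ c) (by rw [hq1.w, Category.assoc])
  have hq2 : IsPullback q (pullback.snd (pullback.snd π (Red.geomPt s)) θ) snd c := by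
    refine IsPullback.of_right (h₁₂ := fst) (v₁₃ := π) (h₂₂ := y) ?_ (hp.lift_snd _ _ _) hp
    rw [hp.lift_fst]
    exact hq1
  have hc : Surjective c := by
    refine ⟨fun x => ⟨IsLocalRing.closedPoint Ω, Subsingleton.elim (α := PrimeSpectrum K) _ _⟩⟩
  have hq : Surjective q := MorphismProperty.of_isPullback hq2.flip hc
  exact hq.surj.connectedSpace q.continuous

end K9.GeomConn
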