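import Groth.Agent.SGA3x.K9.PtsAux
import Groth.Agent.SGA3x.K9.GeomConn
import Groth.Agent.SGA3x.K9.Glue
import Groth.Agent.SGA3x.K10.MTLoc
import Groth.Agent.S5286

/-!
# Descent of central homomorphisms along coverings with geometrically connected fibres
-/

set_option autoImplicit false
universe u
open CategoryTheory MonoidalCategory CartesianMonoidalCategory MonObj GrpObj AlgebraicGeometry Limits

namespace K9.CentDesc

open Groth.Agent.Sga3B Groth.Agent.Sga3B.BcPts Groth.Agent.Sga3B.IsoFam K9.PtsAux K9.Glue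

variable {S S' : Scheme.{u}} {H G : Over S} [GrpObj H] [GrpObj G]

/-- The diagonal point. -/
lemma eq_of_diag {X : Scheme.{u}} {W : Scheme.{u}} (p₁ p₂ : W ⟶ X) (δ : X ⟶ W) (h₁ : δ ≫ p₁ = 𝟙 X) (h₂ : δ ≫ p₂ = 𝟙 X)
    (x : X) : W.fromSpecResidueField (δ x) ≫ p₁ = W.fromSpecResidueField (δ x) ≫ p₂ := by
  let c : Spec (X.residueField x) ⟶ Spec (W.residueField (δ x)) := Spec.map (δ.residueFieldMap x)
  have hc : Flat c := by
    let _ : Algebra (W.residueField (δ x)) (X.residueField x) := (δ.residueFieldMap x).hom.toAlgebra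
    change Flat (Spec.map _)
    rw [Flat.SpecMap_iff]
    exact (RingHom.flat_algebraMap_iff (R := W.residueField (δ x)) (S := X.residueField x)).mpr inferInstance
  have hc' : Surjective c := ⟨fun y => ⟨IsLocalRing.closedPoint _, Subsingleton.elim (α := PrimeSpectrum _) _ _⟩⟩
  have hc'' : Epi c := Flat.epi_of_flat_of_surjective c
  rw [← cancel_epi c]
  have h3 : c ≫ W.fromSpecResidueField (δ x) = X.fromSpecResidueField x ≫ δ := by
    simp [c]
  rw [reassoc_of% h3, reassoc_of% h3, h₁, h₂]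

/-- **Descent data are constant.** -/
theorem fam_const (hH : SGA3x.IsMultTypeFT H) [IsSeparated G.hom] [LocallyOfFinitePresentation G.hom]
    [QuasiCompact G.hom] [QuasiSeparated G.hom] (π : S' ⟶ S) [GeometricallyConnected π]
    {Φ : H ⊗ Over.mk π ⟶ G} (hΦ : AutFam.IsHomFamily H G Φ)
    (hc : ∀ (X : Over S) (g : X ⟶ G) (h : X ⟶ H) (t : X ⟶ Over.mk π), g * (lift h t ≫ Φ) = (lift h t ≫ Φ) * g)
    (X : Over S) (h : X ⟶ H) (t₁ t₂ : X ⟶ Over.mk π) : lift h t₁ ≫ Φ = lift h t₂ ≫ Φ := by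
  let W : Over S := Over.mk π ⊗ Over.mk π
  let D : H ⊗ W ⟶ G := ((H ◁ fst _ _) ≫ Φ) * ((H ◁ snd _ _) ≫ Φ)⁻¹
  have hD : ∀ {T : Over S} (a : T ⟶ H) (w : T ⟶ W), lift a w ≫ D = (lift a (w ≫ fst _ _) ≫ Φ) * (lift a (w ≫ snd _ _) ≫ Φ)⁻¹ := by
    intro T a w
    simp only [D, MonObj.comp_mul, GrpObj.comp_inv, lift_whiskerLeft_assoc]
  have hDh : AutFam.IsHomFamily H G D := by
    intro T a b w
    rw [hD, hD, hD, hΦ, hΦ, _root_.mul_inv_rev]
    have e1 := hc T (lift b (w ≫ snd _ _) ≫ Φ)⁻¹ a (w ≫ snd _ _)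
    have e2 := hc T ((lift b (w ≫ fst _ _) ≫ Φ) * (lift b (w ≫ snd _ _) ≫ Φ)⁻¹) a (w ≫ snd _ _)
    have e3 : (lift b (w ≫ fst _ _) ≫ Φ * (lift b (w ≫ snd _ _) ≫ Φ)⁻¹) * (lift a (w ≫ snd _ _) ≫ Φ)⁻¹ =
        (lift a (w ≫ snd _ _) ≫ Φ)⁻¹ * (lift b (w ≫ fst _ _) ≫ Φ * (lift b (w ≫ snd _ _) ≫ Φ)⁻¹) :=
      ((show Commute _ _ from e2).inv_right)
    calc _ = (lift a (w ≫ fst _ _) ≫ Φ) * ((lift b (w ≫ fst _ _) ≫ Φ * (lift b (w ≫ snd _ _) ≫ Φ)⁻¹) *
          (lift a (w ≫ snd _ _) ≫ Φ)⁻¹) := by group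
      _ = _ := by rw [e3]; group
  have hDm : IsMonHom (unfam D) := isMonHom_unfam hDh
  have i1 : IsSeparated (Red.bc W.hom G).hom := inferInstanceAs (IsSeparated (pullback.snd G.hom W.hom))
  have i2 : LocallyOfFinitePresentation (Red.bc W.hom G).hom :=
    inferInstanceAs (LocallyOfFinitePresentation (pullback.snd G.hom W.hom))
  have i3 : QuasiCompact (Red.bc W.hom G).hom := inferInstanceAs (QuasiCompact (pullback.snd G.hom W.hom))
  have i4 : QuasiSeparated (Red.bc W.hom G).hom := inferInstanceAs (QuasiSeparated (pullback.snd G.hom W.hom))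
  obtain ⟨U, hUc, hU, hU1⟩ := Groth.Agent.S5286.result (Red.bc W.hom H) (Red.bc W.hom G)
    (K10.MTLoc.bc W.hom hH) (Or.inr ⟨i2, i3, i4⟩) (unfam D)
  have htop : ∀ w : W.left, w ∈ U := by
    let p₁ : W.left ⟶ S' := (fst (Over.mk π) (Over.mk π)).left
    let p₂ : W.left ⟶ S' := (snd (Over.mk π) (Over.mk π)).left
    let δ : S' ⟶ W.left := (lift (𝟙 (Over.mk π)) (𝟙 (Over.mk π))).left
    have hδ₁ : δ ≫ p₁ = 𝟙 _ := congrArg (fun m => m.left) (lift_fst (𝟙 (Over.mk π)) (𝟙 (Over.mk π)))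
    have hδ₂ : δ ≫ p₂ = 𝟙 _ := congrArg (fun m => m.left) (lift_snd (𝟙 (Over.mk π)) (𝟙 (Over.mk π)))
    have hp₁ : GeometricallyConnected p₁ := inferInstanceAs (GeometricallyConnected (pullback.fst π π))
    have hdiag : ∀ x : S', δ x ∈ U := by
      intro x
      rw [hU, map_unfam_eq_one_iff]
      intro Y t v h
      rw [hD]
      have h1 : t ≫ fst _ _ = t ≫ snd _ _ := by
        ext1
        change t.left ≫ p₁ = t.left ≫ p₂
        have h2 : v.left ≫ W.left.fromSpecResidueField (δ x) = t.left := Over.w v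
        rw [← h2, Category.assoc, Category.assoc, eq_of_diag p₁ p₂ δ hδ₁ hδ₂ x]
      rw [h1]
      exact mul_inv_cancel _
    intro w
    have h1 : _root_.IsConnected (p₁ ⁻¹' {p₁ w}) := Scheme.Hom.isConnected_preimage_singleton p₁ (p₁ w)
    have h2 : IsClopen (U : Set W.left) := ⟨hUc, U.2⟩
    refine h1.isPreconnected.subset_isClopen h2 ⟨δ (p₁ w), ?_, hdiag _⟩ rfl
    change p₁ (δ (p₁ w)) ∈ ({p₁ w} : Set S')
    rw [← Scheme.Hom.comp_apply, hδ₁]
    rfl
  rw [map_unfam_eq_one_iff] at hU1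
  have h1 : Set.range (lift t₁ t₂).left ⊆ Set.range U.ι := by
    rw [Scheme.Opens.range_ι]
    rintro _ ⟨y, rfl⟩
    exact htop _
  have h2 := hU1 X (lift t₁ t₂) (Over.homMk (IsOpenImmersion.lift U.ι (lift t₁ t₂).left h1)
    (IsOpenImmersion.lift_fac _ _ _)) h
  rw [hD, lift_fst, lift_snd] at h2
  exact mul_inv_eq_one.mp h2

omit [GrpObj H] in
/-- The family attached to a central homomorphism is central. -/
theorem fam_central (π : S' ⟶ S) {u' : Red.bc π H ⟶ Red.bc π G}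
    (hc : ∀ (X : Over S') (g : X ⟶ Red.bc π G) (h : X ⟶ Red.bc π H), g * (h ≫ u') = (h ≫ u') * g)
    (X : Over S) (g : X ⟶ G) (h : X ⟶ H) (t : X ⟶ Over.mk π) :
    g * (lift h t ≫ fam u') = (lift h t ≫ fam u') * g := by
  rw [lift_fam, ev]
  have h1 : g = (overIso t).inv ≫ (bcEquiv π (Over.mk t.left) G).symm (bcEquiv π (Over.mk t.left) G ((overIso t).hom ≫ g)) := by
    rw [Equiv.symm_apply_apply, Iso.inv_hom_id_assoc]
  have h2 := hc (Over.mk t.left) (bcEquiv π (Over.mk t.left) G ((overIso t).hom ≫ g))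
    (bcEquiv π (Over.mk t.left) H ((overIso t).hom ≫ h))
  have h3 := congrArg (fun z => (overIso t).inv ≫ (bcMulEquiv π (Over.mk t.left) G).symm z) h2
  simp only [map_mul, MonObj.comp_mul] at h3
  conv_lhs => rw [h1]
  conv_rhs => rw [h1]
  exact h3

/-- **Gluing a constant family.** -/
theorem exists_hom_of_const (π : S' ⟶ S) [Flat π] [Surjective π]
    (hcov : ∀ V : S.Opens, IsAffineOpen V → ∃ W : S'.Opens, IsCompact (W : Set S') ∧ π.base '' (W : Set S') = (V : Set S))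
    {Φ : H ⊗ Over.mk π ⟶ G} (hΦ : AutFam.IsHomFamily H G Φ)
    (hconst : ∀ (X : Over S) (h : X ⟶ H) (t₁ t₂ : X ⟶ Over.mk π), lift h t₁ ≫ Φ = lift h t₂ ≫ Φ) :
    ∃ u : H ⟶ G, IsMonHom u ∧ ∀ (X : Over S) (h : X ⟶ H) (t : X ⟶ Over.mk π), h ≫ u = lift h t ≫ Φ := by
  have hc := covers_single π hcov
  obtain ⟨u, hu, -⟩ := hc.existsUnique_glue (T := H) (Y := G) (fun T' t x => lift t x.some ≫ Φ) (by
    intro T' T'' r t x x''
    rw [← Category.assoc, comp_lift]
    exact hconst _ _ _ _)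
  have hpt : ∀ (X : Over S) (h : X ⟶ H) (t : X ⟶ Over.mk π), h ≫ u = lift h t ≫ Φ := by
    intro X h t
    rw [hu X h ⟨t⟩]
    exact hconst _ _ _ _
  refine ⟨u, isMonHom_of_mul _ ?_, hpt⟩
  intro T x y
  refine hc.hom_ext fun T' t hT' => ?_
  obtain ⟨v⟩ := hT'
  rw [← Category.assoc, MonObj.comp_mul, MonObj.comp_mul, hpt _ _ v, ← Category.assoc, ← Category.assoc,
    hpt _ _ v, hpt _ _ v]
  exact hΦ _ _ _ _

/-- Homomorphisms are determined after an fpqc covering. -/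
theorem hom_ext_of_cover {A B : Over S} (π : S' ⟶ S) [Flat π] [Surjective π]
    (hcov : ∀ V : S.Opens, IsAffineOpen V → ∃ W : S'.Opens, IsCompact (W : Set S') ∧ π.base '' (W : Set S') = (V : Set S))
    {u v : A ⟶ B} (h : (Over.pullback π).map u = (Over.pullback π).map v) : u = v := by
  refine (covers_single π hcov).hom_ext fun T t hT => ?_
  obtain ⟨w⟩ := hT
  rw [← ev_map (f := π) u t w, h, ev_map]

end K9.CentDesc
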