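import Groth.Agent.SGA3x.K9.NilDS
import Groth.Agent.SGA3x.K7.DSProp
import Groth.Agent.Sga3.H827.ResFin

/-!
# Density of torsion in diagonalisable groups and inclusions between diagonalisable subgroups

* `ext_of_family`: morphisms from `D(Q)` to a separated scheme are determined on the subgroups `D(M_i)`, for a family of
  homomorphisms `Q →+ M_i` which is injective on finite subsets;
* `exists_hom_of_torsion`: `j₁ : D(M) ⟶ G`, `j₂ : D(N) ⟶ G` homomorphisms with `j₂` a monomorphism; if `j₁` maps the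
  `n`-torsion of `D(M)` into `D(N)` for all `n ≠ 0`, then `j₁` factors through `D(N)`.
-/

set_option autoImplicit false
universe u
open CategoryTheory MonoidalCategory CartesianMonoidalCategory MonObj GrpObj AlgebraicGeometry Limits

namespace K9.DenseTors

open Groth.Agent.Sga3B Groth.Agent.Sga3B.DSPts Groth.Agent.Sga3B.InfConj Groth.Agent.Sga3B.TorTransp
open Groth.Agent.Books.AffBridge Groth.Agent.Sga3B.AffPts Groth.Agent.Sga3B.DSAff
open K9.NilDS

variable {R : Type u} [CommRing R]

section ext_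

variable {Q : Type} [AddCommGroup Q]

/-- `D(λ)` in coordinates. -/
lemma univ_comp_DSmap {M : Type} [AddCommGroup M] (l : Q →+ M) :
    charPt (C := R) (MonoidAlgebra.of R (Multiplicative M)) ≫ Red.DSmap (Spec (CommRingCat.of R)) l =
      ptMap (MonoidAlgebra.mapDomainAlgHom R R (AddMonoidHom.toMultiplicative l)) ≫
        charPt (C := R) (MonoidAlgebra.of R (Multiplicative Q)) := by
  rw [ptMap_charPt, charPt, dsEquiv_DSmap]
  congr 1
  ext m
  simp [MonoidAlgebra.of]

theorem ext_of_family {G : Over (Spec (CommRingCat.of R))} [IsSeparated G.hom] {I : Type*} {M : I → Type}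
    [∀ i, AddCommGroup (M i)] (l : ∀ i, Q →+ M i) (hl : ∀ F : Finset Q, ∃ i, Set.InjOn (l i) F)
    (a b : Red.DS (Spec (CommRingCat.of R)) Q ⟶ G)
    (h : ∀ i, Red.DSmap (Spec (CommRingCat.of R)) (l i) ≫ a = Red.DSmap (Spec (CommRingCat.of R)) (l i) ≫ b) :
    a = b := by
  classical
  let A := MonoidAlgebra R (Multiplicative Q)
  let c : pt R A ⟶ Red.DS (Spec (CommRingCat.of R)) Q := charPt (C := R) (MonoidAlgebra.of R (Multiplicative Q))
  have hc : IsIso c := inferInstanceAs (IsIso (dsFrom R Q))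
  rw [← cancel_epi c]
  let E := equalizer (c ≫ a) (c ≫ b)
  let ε : E ⟶ pt R A := equalizer.ι (c ≫ a) (c ≫ b)
  have hε : IsClosedImmersion ε.left := inferInstanceAs (IsClosedImmersion (equalizer.ι (c ≫ a) (c ≫ b)).left)
  obtain ⟨J, e, he⟩ := IsClosedImmersion.Spec_iff.mp hε
  have hJ : ∀ f ∈ J, f = 0 := by
    intro f hf
    obtain ⟨i, hi⟩ := hl (f.coeff.support.map (Multiplicative.toAdd.toEmbedding))
    have h1 : ptMap (MonoidAlgebra.mapDomainAlgHom R R (AddMonoidHom.toMultiplicative (l i))) ≫ c ≫ a =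
      ptMap (MonoidAlgebra.mapDomainAlgHom R R (AddMonoidHom.toMultiplicative (l i))) ≫ c ≫ b := by
      rw [← Category.assoc, ← Category.assoc, ← univ_comp_DSmap, Category.assoc, Category.assoc, h i]
    let t := equalizer.lift _ h1
    have ht : t ≫ ε = ptMap (MonoidAlgebra.mapDomainAlgHom R R (AddMonoidHom.toMultiplicative (l i))) :=
      equalizer.lift_ι _ h1
    have h2 : MonoidAlgebra.mapDomainAlgHom R R (AddMonoidHom.toMultiplicative (l i)) f = 0 := by
      have h3 : (t.left ≫ e.hom) ≫ Spec.map (CommRingCat.ofHom (Ideal.Quotient.mk J)) =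
          Spec.map (CommRingCat.ofHom (MonoidAlgebra.mapDomainAlgHom R R (AddMonoidHom.toMultiplicative (l i))).toRingHom) := by
        rw [Category.assoc, ← he]
        exact congrArg (fun m => m.left) ht
      rw [← Spec.map_preimage (t.left ≫ e.hom), ← Spec.map_comp] at h3
      have h4 := Spec.map_injective h3
      have h5 : (MonoidAlgebra.mapDomainAlgHom R R (AddMonoidHom.toMultiplicative (l i))).toRingHom f =
        (Spec.preimage (t.left ≫ e.hom)).hom (Ideal.Quotient.mk J f) := by
        have := congrArg (fun m => m.hom f) h4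
        exact this.symm
      rw [Ideal.Quotient.eq_zero_iff_mem.mpr hf, map_zero] at h5
      exact h5
    have h6 : Finsupp.mapDomain (AddMonoidHom.toMultiplicative (l i)) f.coeff = 0 := by
      have := congrArg MonoidAlgebra.coeff h2
      simpa using this
    have h7 : f.coeff = 0 := by
      have hinj : Set.InjOn (AddMonoidHom.toMultiplicative (l i)) (f.coeff.support : Set (Multiplicative Q)) := by
        intro x hx y hy hxy
        have := hi (x₁ := Multiplicative.toAdd x) (x₂ := Multiplicative.toAdd y)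
          (Finset.mem_coe.mpr (Finset.mem_map_of_mem _ hx)) (Finset.mem_coe.mpr (Finset.mem_map_of_mem _ hy)) hxy
        exact this
      refine Finsupp.mapDomain_injOn _ hinj (x₁ := f.coeff) (x₂ := 0) (by simp) (by simp) ?_
      rw [h6, Finsupp.mapDomain_zero]
    exact MonoidAlgebra.coeff_injective h7
  have hJ0 : J = ⊥ := (Submodule.eq_bot_iff J).mpr hJ
  have hiso : IsIso ε.left := by
    rw [he]
    have : IsIso (Spec.map (CommRingCat.ofHom (Ideal.Quotient.mk J))) := by
      have h8 : Function.Bijective (Ideal.Quotient.mk J) :=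
        ⟨by rw [RingHom.injective_iff_ker_eq_bot, Ideal.mk_ker, hJ0], Ideal.Quotient.mk_surjective⟩
      have h9 : IsIso (CommRingCat.ofHom (Ideal.Quotient.mk J)) :=
        (RingEquiv.ofBijective _ h8).toCommRingCatIso.isIso_hom
      infer_instance
    infer_instance
  have h10' : IsIso ((Over.forget (Spec (CommRingCat.of R))).map ε) := hiso
  have h10 : IsIso ε := isIso_of_reflects_iso ε (Over.forget _)
  rw [← cancel_epi ε]
  exact equalizer.condition _ _

end ext_

section hom

variable {M N : Type} [AddCommGroup M] [AddCommGroup N]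

/-- the subgroup `kM` -/
def mulRange (M : Type) [AddCommGroup M] (k : ℕ) : AddSubgroup M := (nsmulAddMonoidHom k : M →+ M).range

lemma mem_mulRange {k : ℕ} {m : M} : m ∈ mulRange M k ↔ ∃ x : M, k • x = m := Iff.rfl

lemma mulRange_le {k n : ℕ} (h : k ∣ n) : mulRange M n ≤ mulRange M k := by
  obtain ⟨c, rfl⟩ := h
  rintro _ ⟨x, rfl⟩
  exact ⟨c • x, by simp [mul_nsmul']⟩

/-- the quotient `M / kM` -/
abbrev Mod (M : Type) [AddCommGroup M] (k : ℕ) : Type := M ⧸ mulRange M k

/-- the projection -/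
abbrev prj (M : Type) [AddCommGroup M] (k : ℕ) : M →+ Mod M k := QuotientAddGroup.mk' _

/-- the transition map -/
def trans (M : Type) [AddCommGroup M] {k n : ℕ} (h : k ∣ n) : Mod M n →+ Mod M k :=
  QuotientAddGroup.map _ _ (AddMonoidHom.id M) (mulRange_le h)

lemma trans_comp_prj {k n : ℕ} (h : k ∣ n) : (trans M h).comp (prj M n) = prj M k := by
  ext m
  rfl

lemma exists_ne_zero [Module.Finite ℤ M] {m : M} (hm : m ≠ 0) : ∃ k : ℕ, k ≠ 0 ∧ prj M k m ≠ 0 := by
  obtain ⟨k, hk, h⟩ := Groth.Agent.Sga3.H827.ResFin.exists_notMem_smul hm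
  refine ⟨k.natAbs, Int.natAbs_ne_zero.mpr hk, fun h0 => ?_⟩
  rw [QuotientAddGroup.mk'_apply, QuotientAddGroup.eq_zero_iff, mem_mulRange] at h0
  obtain ⟨x, hx⟩ := h0
  rcases Int.natAbs_eq k with h1 | h1
  · exact h x (by rw [← hx, h1, Int.natAbs_natCast, natCast_zsmul])
  · exact h (-x) (by rw [← hx, h1, Int.natAbs_neg, Int.natAbs_natCast, neg_smul, smul_neg, neg_neg, natCast_zsmul])

lemma finite_mod [Module.Finite ℤ M] {k : ℕ} (hk : k ≠ 0) : Finite (Mod M k) := by
  have h1 : AddGroup.FG M := Module.Finite.iff_addGroup_fg.mp inferInstance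
  have h2 : AddGroup.FG (Mod M k) := inferInstance
  refine AddCommGroup.finite_of_fg_isAddTorsion _ fun g => ?_
  obtain ⟨g, rfl⟩ := QuotientAddGroup.mk'_surjective _ g
  rw [isOfFinAddOrder_iff_nsmul_eq_zero]
  exact ⟨k, Nat.pos_of_ne_zero hk, (QuotientAddGroup.eq_zero_iff _).2 ⟨g, rfl⟩⟩

lemma mono_of_joint {G : Over (Spec (CommRingCat.of R))} {Q : Type} [AddCommGroup Q] (al : M →+ Q) (be : N →+ Q)
    (hj : ∀ q, ∃ m x, q = al m + be x)
    (j₁ : Red.DS (Spec (CommRingCat.of R)) M ⟶ G) (j₂ : Red.DS (Spec (CommRingCat.of R)) N ⟶ G) [Mono j₂]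
    (key : Red.DSmap (Spec (CommRingCat.of R)) al ≫ j₁ = Red.DSmap (Spec (CommRingCat.of R)) be ≫ j₂) :
    Mono (Red.DSmap (Spec (CommRingCat.of R)) al) := by
  refine ⟨fun {T} a b hab => ?_⟩
  have h2 : a ≫ Red.DSmap (Spec (CommRingCat.of R)) be = b ≫ Red.DSmap (Spec (CommRingCat.of R)) be := by
    rw [← cancel_mono j₂, Category.assoc, Category.assoc, ← key, ← Category.assoc, ← Category.assoc, hab]
  apply (dsEquiv T Q).symm.injective
  change dsChar a = dsChar b
  have h3 : dsChar (a ≫ Red.DSmap (Spec (CommRingCat.of R)) al) =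
    dsChar (b ≫ Red.DSmap (Spec (CommRingCat.of R)) al) := by rw [hab]
  have h4 : dsChar (a ≫ Red.DSmap (Spec (CommRingCat.of R)) be) =
    dsChar (b ≫ Red.DSmap (Spec (CommRingCat.of R)) be) := by rw [h2]
  rw [dsChar_DSmap, dsChar_DSmap] at h3 h4
  refine MonoidHom.ext fun q => ?_
  obtain ⟨m, x, hq⟩ := hj (Multiplicative.toAdd q)
  have h5 : q = Multiplicative.ofAdd (al m) * Multiplicative.ofAdd (be x) := by
    rw [← ofAdd_add, ← hq]
    rfl
  rw [h5, MonoidHom.map_mul, MonoidHom.map_mul]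
  exact congrArg₂ (· * ·) (DFunLike.congr_fun h3 (Multiplicative.ofAdd m))
    (DFunLike.congr_fun h4 (Multiplicative.ofAdd x))

variable [Nontrivial R] {G : Over (Spec (CommRingCat.of R))} [IsSeparated G.hom]

/-- **Inclusions between diagonalisable subgroups are detected on torsion.** -/
theorem exists_hom_of_torsion [Module.Finite ℤ M]
    (j₁ : Red.DS (Spec (CommRingCat.of R)) M ⟶ G) (j₂ : Red.DS (Spec (CommRingCat.of R)) N ⟶ G) [Mono j₂]
    (h : ∀ k : ℕ, k ≠ 0 → ∃ χ : N →+ Mod M k, Red.DSmap _ (prj M k) ≫ j₁ = Red.DSmap _ χ ≫ j₂) :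
    ∃ χ : N →+ M, j₁ = Red.DSmap _ χ ≫ j₂ := by
  classical
  choose χ hχ using h
  -- compatibility
  have hcomp : ∀ (k n : ℕ) (hk : k ≠ 0) (hn : n ≠ 0) (hd : k ∣ n), (trans M hd).comp (χ n hn) = χ k hk := by
    intro k n hk hn hd
    apply K7.DSProp.DSmap_injective (R := R)
    rw [← cancel_mono j₂, ← hχ k hk, ← K7.DSProp.DSmap_comp, Category.assoc, ← hχ n hn, ← Category.assoc,
      K7.DSProp.DSmap_comp, trans_comp_prj]
  let I := {k : ℕ // k ≠ 0}
  let lam : ∀ i : I, M × N →+ Mod M i.1 := fun i => AddMonoidHom.coprod (prj M i.1) (χ i.1 i.2)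
  let L : AddSubgroup (M × N) := ⨅ i : I, (lam i).ker
  let Q := (M × N) ⧸ L
  let lq : ∀ i : I, Q →+ Mod M i.1 := fun i => QuotientAddGroup.lift L (lam i) (fun x hx =>
    (AddSubgroup.mem_iInf.mp hx i))
  have hlq : ∀ (i : I) (m : M) (x : N), lq i (QuotientAddGroup.mk' L (m, x)) = prj M i.1 m + χ i.1 i.2 x :=
    fun i m x => rfl
  let al : M →+ Q := (QuotientAddGroup.mk' L).comp (AddMonoidHom.inl M N)
  let be : N →+ Q := (QuotientAddGroup.mk' L).comp (AddMonoidHom.inr M N)
  have hal : ∀ i, (lq i).comp al = prj M i.1 := by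
    intro i
    refine AddMonoidHom.ext fun m => ?_
    exact (hlq i m 0).trans (by rw [map_zero, add_zero])
  have hbe : ∀ i, (lq i).comp be = χ i.1 i.2 := by
    intro i
    refine AddMonoidHom.ext fun x => ?_
    exact (hlq i 0 x).trans (by rw [map_zero, zero_add])
  have htr : ∀ (i j : I) (hd : i.1 ∣ j.1) (q : Q), trans M hd (lq j q) = lq i q := by
    intro i j hd q
    obtain ⟨⟨m, x⟩, rfl⟩ := QuotientAddGroup.mk'_surjective L q
    rw [hlq, hlq, map_add]
    congr 1
    exact DFunLike.congr_fun (hcomp i.1 j.1 i.2 j.2 hd) x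
  have hinj : ∀ q : Q, q ≠ 0 → ∃ i : I, lq i q ≠ 0 := by
    intro q hq
    by_contra hcon
    push Not at hcon
    apply hq
    obtain ⟨y, rfl⟩ := QuotientAddGroup.mk'_surjective L q
    rw [QuotientAddGroup.mk'_apply, QuotientAddGroup.eq_zero_iff]
    exact AddSubgroup.mem_iInf.mpr fun i => hcon i
  have hdir : ∀ F : Finset Q, ∃ i, Set.InjOn (lq i) F := by
    intro F
    -- an index for the finite set of nonzero differences
    have h1 : ∀ D : Finset Q, (∀ d ∈ D, d ≠ 0) → ∃ i : I, ∀ d ∈ D, lq i d ≠ 0 := by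
      intro D
      induction D using Finset.induction_on with
      | empty => exact fun _ => ⟨⟨1, one_ne_zero⟩, by simp⟩
      | insert d D hd ih => 
        intro hD
        obtain ⟨i, hi⟩ := ih fun e he => hD e (Finset.mem_insert_of_mem he)
        obtain ⟨j, hj⟩ := hinj d (hD d (Finset.mem_insert_self _ _))
        let k : I := ⟨i.1 * j.1, mul_ne_zero i.2 j.2⟩
        refine ⟨k, fun e he => ?_⟩
        rcases Finset.mem_insert.mp he with rfl | he
        · intro h0
          apply hj
          rw [← htr j k (Dvd.intro_left _ rfl), h0, map_zero]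
        · intro h0
          apply hi e he
          rw [← htr i k (Dvd.intro _ rfl), h0, map_zero]
    obtain ⟨i, hi⟩ := h1 (((F ×ˢ F).image fun p => p.1 - p.2).filter (· ≠ 0)) (by simp)
    refine ⟨i, fun x hx y hy hxy => ?_⟩
    by_contra hne
    refine hi (x - y) ?_ (by rw [map_sub, hxy, sub_self])
    rw [Finset.mem_filter, Finset.mem_image]
    exact ⟨⟨(x, y), Finset.mem_product.mpr ⟨hx, hy⟩, rfl⟩, sub_ne_zero.mpr hne⟩
  have key : Red.DSmap (Spec (CommRingCat.of R)) al ≫ j₁ = Red.DSmap (Spec (CommRingCat.of R)) be ≫ j₂ := by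
    refine ext_of_family lq hdir _ _ fun i => ?_
    rw [← Category.assoc, ← Category.assoc, K7.DSProp.DSmap_comp, K7.DSProp.DSmap_comp, hal, hbe, hχ]
  -- `al` is bijective
  have hals : Function.Surjective al := by
    apply K7.DSProp.surjective_of_mono (R := R)
    have hm : Mono (Red.DSmap (Spec (CommRingCat.of R)) al) := by
      refine mono_of_joint al be ?_ j₁ j₂ key
      intro q
      obtain ⟨⟨m, x⟩, hq⟩ := QuotientAddGroup.mk'_surjective L q
      refine ⟨m, x, ?_⟩
      rw [← hq]
      change _ = (QuotientAddGroup.mk' L) (m, 0) + (QuotientAddGroup.mk' L) (0, x)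
      rw [← map_add]
      simp
    infer_instance
  have hali : Function.Injective al := by
    rw [injective_iff_map_eq_zero]
    intro m hm
    by_contra hne
    obtain ⟨k, hk, hk'⟩ := exists_ne_zero hne
    apply hk'
    rw [← hal ⟨k, hk⟩, AddMonoidHom.comp_apply, hm, map_zero]
  let e : M ≃+ Q := AddEquiv.ofBijective al ⟨hali, hals⟩
  refine ⟨e.symm.toAddMonoidHom.comp be, ?_⟩
  have h6 : (e.symm.toAddMonoidHom).comp al = AddMonoidHom.id M := by
    refine AddMonoidHom.ext fun m => ?_
    exact e.symm_apply_apply m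
  rw [← K7.DSProp.DSmap_comp, Category.assoc, ← key, ← Category.assoc, K7.DSProp.DSmap_comp, h6, K7.DSProp.DSmap_id,
    Category.id_comp]

end hom

end K9.DenseTors
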