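import Groth.Agent.SGA3x.K9.MTSubAff
import Groth.Agent.RedSub.H647.SubF
import Groth.Agent.RedSub.H672.ZarGlue
import Groth.Agent.S0081

/-!
# Subgroups of multiplicative type of a smooth affine group

`main`: `G` smooth and affine over `S`: the functor of subgroups of multiplicative type of `G` is representable by a
scheme smooth and separated over `S`.
-/

set_option autoImplicit false
universe u
open CategoryTheory MonoidalCategory CartesianMonoidalCategory MonObj GrpObj AlgebraicGeometry Limits Opposite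

namespace K9.MTSubMain

open Groth.Agent Groth.Agent.Sga3B Groth.Agent.Sga3B.MT Groth.Agent.RedSub.H647.SubF Groth.Agent.RedSub.H647.SubPt
  K204.SubRep

variable {S : Scheme.{u}} (G : Over S) [GrpObj G]

/-- the class of closed subgroups of multiplicative type -/
def mtClass : SubClass G where
  Q := fun {S'} f {H} _ h => IsMonHom h ∧ IsClosedImmersion h.left ∧ SGA3x.IsMultTypeFT H
  isMonHom h := h.1
  isClosedImmersion h := h.2.1
  of_iso := by
    intro S' f H H' _ _ h h' e he hQ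
    obtain ⟨h1, h2, h3⟩ := hQ
    have hi : IsIso e.hom.hom.hom := inferInstanceAs (IsIso ((Grp.forget _).map e.hom))
    have hi' : IsIso e.hom.hom.hom.left := inferInstanceAs (IsIso ((Over.forget _).map e.hom.hom.hom))
    have hm : IsMonHom e.inv.hom.hom := inferInstance
    have e1 : h' = e.inv.hom.hom ≫ h := by
      rw [← he, ← Category.assoc]
      have : e.inv.hom.hom ≫ e.hom.hom.hom = 𝟙 _ := congrArg (fun z => z.hom.hom) e.inv_hom_id
      rw [this, Category.id_comp]
    refine ⟨?_, ?_, _root_.K10.MTLoc.of_iso e h3⟩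
    · rw [e1]
      infer_instance
    · have h4 : IsClosedImmersion (e.hom.hom.hom.left ≫ h'.left) := by
        rw [← Over.comp_left, he]
        exact h2
      exact (MorphismProperty.cancel_left_of_respectsIso @IsClosedImmersion e.hom.hom.hom.left h'.left).1 h4
  bc := by
    intro S' S'' q f H _ h hQ
    obtain ⟨h1, h2, h3⟩ := hQ
    exact ⟨isMonHom_bcSub q h, isClosedImmersion_bcSub q h, _root_.K10.MTLoc.bc q h3⟩

/-- The class is étale local. -/
theorem isLocal : (mtClass G).IsLocal (fun {J} {Y} {Y'} (q : ∀ i : J, Y' i ⟶ Y) =>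
    (∀ i, Etale (q i)) ∧ ∀ y : Y, ∃ (i : J) (y' : Y' i), q i y' = y) := by
  intro S' f J S'' q hq H _ h hm hc hQ
  refine ⟨hm, hc, _root_.K10.MTLoc.of_family q (fun i => ?_) (fun i => ?_) (fun s => ?_) fun i => (hQ i).2.2⟩
  · have := hq.1 i
    infer_instance
  · have := hq.1 i
    exact (q i).isOpenMap
  · obtain ⟨i, y, hy⟩ := hq.2 s
    exact ⟨i, y, hy⟩

variable {G}

lemma isMonHom_down {V S' : Scheme.{u}} (v : V ⟶ S) {q : S' ⟶ V} {H : Over S'} [GrpObj H]
    (h : H ⟶ Red.bc q (Red.bc v G)) : IsMonHom (SubClass.down v h) ↔ IsMonHom h := by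
  have hm : IsMonHom (RedIso.und (BcIso.bcCompIso q v G).symm).hom :=
    inferInstanceAs (IsMonHom (BcIso.bcCompIso q v G).symm.hom.hom.hom)
  have hm' : IsMonHom (RedIso.und (BcIso.bcCompIso q v G).symm).inv :=
    inferInstanceAs (IsMonHom (BcIso.bcCompIso q v G).symm.inv.hom.hom)
  constructor
  · intro hd
    have e : h = SubClass.down v h ≫ (RedIso.und (BcIso.bcCompIso q v G).symm).inv := by
      rw [SubClass.down, Category.assoc, Iso.hom_inv_id, Category.comp_id]
    rw [e]
    infer_instance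
  · intro hd
    rw [SubClass.down]
    infer_instance

lemma isClosedImmersion_down {V S' : Scheme.{u}} (v : V ⟶ S) {q : S' ⟶ V} {H : Over S'}
    (h : H ⟶ Red.bc q (Red.bc v G)) : IsClosedImmersion (SubClass.down v h).left ↔ IsClosedImmersion h.left := by
  have hi : IsIso (RedIso.und (BcIso.bcCompIso q v G).symm).hom.left :=
    inferInstanceAs (IsIso ((Over.forget _).map (RedIso.und (BcIso.bcCompIso q v G).symm).hom))
  rw [SubClass.down, Over.comp_left]
  exact MorphismProperty.cancel_right_of_respectsIso @IsClosedImmersion _ _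

/-- A representation over an affine scheme over `S`. -/
theorem exists_affine [IsAffineHom G.hom] [Smooth G.hom] {R : Type u} [CommRing R]
    (v : Spec (CommRingCat.of R) ⟶ S) : ∃ A : Over (Spec (CommRingCat.of R)), Smooth A.hom ∧ IsSeparated A.hom ∧
      Nonempty (((Over.map v).op ⋙ (mtClass G).subsF).RepresentableBy A) := by
  have h1 : IsAffineHom (Red.bc v G).hom := MorphismProperty.pullback_snd (P := @IsAffineHom) _ _ ‹_›
  have h2 : Smooth (Red.bc v G).hom := MorphismProperty.pullback_snd (P := @Smooth) _ _ ‹_›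
  obtain ⟨M, K, _, j, hM1, hM2, hj1, hj2, hK, hrep⟩ := K9.MTSubAff.main (Red.bc v G)
  refine ⟨M, hM1, hM2, (mtClass G).representableBy_of v j
    ⟨(isMonHom_down v j).2 hj1, (isClosedImmersion_down v j).2 hj2, hK⟩ ?_⟩
  rintro S' f H' _ h' ⟨h3, h4, h5⟩
  have h6 := (isClosedImmersion_down v h').1 h4
  have h7 : Mono h' := Sga3C.ClosedSub.mono_of_left h'
  obtain ⟨g, ⟨hg1, hg2⟩, hg3⟩ := hrep S' f H' h' ((isMonHom_down v h').1 h3) h7 h5
  have key : ∀ g : S' ⟶ M.left, RedSub.SamePoints (Red.bc v G) f h' M j g ↔ Same h' j (𝟙 _) g := by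
    intro g
    rw [samePoints_iff]
    simp only [Same, Category.comp_id]
    exact Iff.rfl
  exact ⟨g, ⟨hg1, (key g).2 hg2⟩, fun g' hg' => hg3 g' ⟨hg'.1, (key g').1 hg'.2⟩⟩

/-- **Subgroups of multiplicative type of a smooth affine group.** -/
theorem main (G : Over S) [GrpObj G] [IsAffineHom G.hom] [Smooth G.hom] :
    ∃ (M : Over S) (K : Over M.left) (_ : GrpObj K) (j : K ⟶ Red.bc M.hom G),
      Smooth M.hom ∧ IsSeparated M.hom ∧ IsMonHom j ∧ IsClosedImmersion j.left ∧ SGA3x.IsMultTypeFT K ∧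
      ∀ (T : Scheme.{u}) (f : T ⟶ S) (K' : Over T) [GrpObj K'] (j' : K' ⟶ Red.bc f G),
        IsMonHom j' → Mono j' → SGA3x.IsMultTypeFT K' →
        ∃! v : T ⟶ M.left, v ≫ M.hom = f ∧ Same j' j (𝟙 _) v := by
  have hloc : ∀ s : S, ∃ (V : Scheme.{u}) (v : V ⟶ S), IsOpenImmersion v ∧ s ∈ Set.range v ∧ ∃ A : Over V,
      Smooth A.hom ∧ IsSeparated A.hom ∧ Nonempty (((Over.map v).op ⋙ (mtClass G).subsF).RepresentableBy A) := by
    intro s
    obtain ⟨U, hU, hs, -⟩ := exists_isAffineOpen_mem_and_subset (x := s) (U := ⊤) trivial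
    obtain ⟨A, hA1, hA2, hA3⟩ := exists_affine (G := G) (R := Γ(S, U)) hU.fromSpec
    exact ⟨_, hU.fromSpec, inferInstance, by rw [hU.range_fromSpec]; exact hs, A, hA1, hA2, hA3⟩
  obtain ⟨M, ⟨r⟩⟩ := Groth.Agent.RedSub.H672.ZarGlue.exists_representableBy_of_openImmersion
    ((mtClass G).isEtSheaf_subsF (isLocal G)) fun s => by
      obtain ⟨V, v, h1, h2, A, -, -, h3⟩ := hloc s
      exact ⟨V, v, h1, h2, A, h3⟩
  obtain ⟨K, _, j, hM⟩ := (mtClass G).exists_represents r
  have hsep : MorphismProperty.DescendsAlong @IsSeparated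
    (@Surjective ⊓ @Flat ⊓ @QuasiCompact : MorphismProperty Scheme.{u}) := Groth.Agent.S0081.result
  refine ⟨M, K, inferInstance, j, ?_, ?_, hM.1.1, hM.1.2.1, hM.1.2.2, fun T f K' _ j' h1 h2 h3 => ?_⟩
  · refine (mtClass G).prop_of_representableBy @Smooth r fun s => ?_
    obtain ⟨V, v, h1, h2, A, h3, -, h4⟩ := hloc s
    exact ⟨V, v, inferInstance, h2, A, h4, h3⟩
  · refine (mtClass G).prop_of_representableBy @IsSeparated r fun s => ?_
    obtain ⟨V, v, h1, h2, A, -, h3, h4⟩ := hloc s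
    exact ⟨V, v, inferInstance, h2, A, h4, h3⟩
  · have h4 : IsAffineHom (Red.bc f G).hom := MorphismProperty.pullback_snd (P := @IsAffineHom) _ _ ‹_›
    have h5 : IsClosedImmersion j'.left := SGA3x.K5.MTNorm.isClosedImmersion_of_mono j' h3
    obtain ⟨g, ⟨hg1, hg2⟩, hg3⟩ := hM.2 T f K' j' ⟨h1, h5, h3⟩
    have key : ∀ g : T ⟶ M.left, RedSub.SamePoints G f j' M j g ↔ Same j' j (𝟙 _) g := by
      intro g
      rw [samePoints_iff]
      simp only [Same, Category.comp_id]
      exact Iff.rfl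
    exact ⟨g, ⟨hg1, (key g).1 hg2⟩, fun g' hg' => hg3 g' ⟨hg'.1, (key g').2 hg'.2⟩⟩

end K9.MTSubMain
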