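import Groth.Agent.SGA3x.K9.SubLoc

/-!
# The locus where one subgroup of multiplicative type is contained in another: general case
-/

set_option autoImplicit false
universe u
open CategoryTheory MonoidalCategory CartesianMonoidalCategory MonObj GrpObj AlgebraicGeometry Limits

namespace K9.SubLoc

open K9.TrivLoc K9.PtsAux K9.DenseTors Groth.Agent.Sga3B Groth.Agent.Sga3B.BcPts Groth.Agent.Sga3B.IsoFam
open Groth.Agent.SGA3x.K5.Clopen

variable {S : Scheme.{u}} {G H₁ H₂ : Over S} [GrpObj G] [GrpObj H₁] [GrpObj H₂]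

/-- **The locus of inclusion** of one subgroup of multiplicative type into another which commutes with it is open and
closed. -/
theorem exists_le_locus [IsSeparated G.hom] (hG : Good G) (h₁ : SGA3x.IsMultTypeFT H₁) (h₂ : SGA3x.IsMultTypeFT H₂)
    (i₁ : H₁ ⟶ G) (i₂ : H₂ ⟶ G) [IsMonHom i₁] [IsMonHom i₂] [Mono i₂]
    (hc : ∀ (X : Over S) (a : X ⟶ H₁) (b : X ⟶ H₂), (a ≫ i₁) * (b ≫ i₂) = (b ≫ i₂) * (a ≫ i₁)) :
    ∃ U : S.Opens, IsClosed (U : Set S) ∧ ∀ T : Over S, Le i₁ i₂ T ↔ Set.range T.hom ⊆ (U : Set S) := by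
  refine exists_clopen (fun T => Le i₁ i₂ T) (fun t h => h.comp t) (fun T h => Le.of_etale h) fun s => ?_
  obtain ⟨V, v, M, N, _, _, hv, ⟨y, hy⟩, hM, hN, ⟨e⟩, ⟨e'⟩⟩ := exists_etale_split₂ h₁ h₂ s
  let ε : Red.bc v H₁ ≅ Red.DS V M := (Grp.forget _).mapIso e
  let ε' : Red.bc v H₂ ≅ Red.DS V N := (Grp.forget _).mapIso e'
  have hε : IsMonHom ε.inv := inferInstanceAs (IsMonHom e.inv.hom.hom)
  have hε' : IsMonHom ε'.inv := inferInstanceAs (IsMonHom e'.inv.hom.hom)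
  have hsep : IsSeparated (Red.bc v G).hom := inferInstanceAs (IsSeparated (pullback.snd G.hom v))
  have hm : Mono ((Over.pullback v).map i₂) := inferInstance
  have hc' : ∀ (X : Over V) (a : X ⟶ Red.DS V M) (b : X ⟶ Red.DS V N),
      (a ≫ ε.inv ≫ (Over.pullback v).map i₁) * (b ≫ ε'.inv ≫ (Over.pullback v).map i₂) =
        (b ≫ ε'.inv ≫ (Over.pullback v).map i₂) * (a ≫ ε.inv ≫ (Over.pullback v).map i₁) := by
    intro X a b
    apply (bcMulEquiv v X G).symm.injective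
    rw [map_mul, map_mul]
    have h1 : (bcMulEquiv v X G).symm (a ≫ ε.inv ≫ (Over.pullback v).map i₁) =
        (bcEquiv v X H₁).symm (a ≫ ε.inv) ≫ i₁ := by
      rw [← bcEquiv_symm_comp, Category.assoc]
      rfl
    have h2 : (bcMulEquiv v X G).symm (b ≫ ε'.inv ≫ (Over.pullback v).map i₂) =
        (bcEquiv v X H₂).symm (b ≫ ε'.inv) ≫ i₂ := by
      rw [← bcEquiv_symm_comp, Category.assoc]
      rfl
    rw [h1, h2]
    exact hc _ _ _
  obtain ⟨W, hyW, h⟩ := split_local (hG.bc v) hM hN (ε.inv ≫ (Over.pullback v).map i₁)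
    (ε'.inv ≫ (Over.pullback v).map i₂) hc' y
  refine ⟨Over.mk (W.ι ≫ v), ?_, ?_, ?_⟩
  · exact inferInstanceAs (Etale (W.ι ≫ v))
  · refine ⟨⟨y, hyW⟩, ?_⟩
    exact (Scheme.Hom.comp_apply W.ι v _).trans hy
  · have hmk : (Over.map v).obj (Over.mk W.ι) = Over.mk (W.ι ≫ v) := rfl
    rcases h with h | h
    · refine Or.inl ?_
      rw [← hmk]
      refine Le.of_map v (Le.of_conj ε ε' (h _ ?_))
      change Set.range W.ι ⊆ _
      rw [Scheme.Opens.range_ι]
    · refine Or.inr fun T t hT hE => ?_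
      let T' : Over V := Over.mk (t.left ≫ W.ι)
      refine h T' ?_ hT ?_
      · rintro _ ⟨z, rfl⟩
        change (t.left ≫ W.ι) z ∈ _
        rw [Scheme.Hom.comp_apply]
        exact (t.left z).2
      · refine Le.conj ε ε' (Le.map v ?_)
        have h1 : t.left ≫ W.ι ≫ v = T.hom := Over.w t
        refine hE.comp (Over.homMk (𝟙 T.left) ?_ : (Over.map v).obj T' ⟶ T)
        change 𝟙 _ ≫ T.hom = (t.left ≫ W.ι) ≫ v
        rw [Category.id_comp, Category.assoc, h1]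

omit [GrpObj G] [GrpObj H₁] [GrpObj H₂] in
/-- Mutual inclusion over `f` is the same as an isomorphism of the base changes compatible with the inclusions. -/
theorem le_le_iff (i₁ : H₁ ⟶ G) (i₂ : H₂ ⟶ G) [Mono i₁] [Mono i₂] {V : Scheme.{u}} (v : V ⟶ S) :
    (Le i₁ i₂ (Over.mk v) ∧ Le i₂ i₁ (Over.mk v)) ↔
      ∃ ψ : Red.bc v H₁ ≅ Red.bc v H₂, ψ.hom ≫ (Over.pullback v).map i₂ = (Over.pullback v).map i₁ := by
  have hv : ∀ {A B : Over S} (i : A ⟶ G) (j : B ⟶ G), Le i j (Over.mk v) ↔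
      Le ((Over.pullback v).map i) ((Over.pullback v).map j) (𝟙_ (Over V)) := by
    intro A B i j
    constructor
    · intro h
      refine Le.map v (h.comp (Over.homMk (𝟙 _) ?_))
      change 𝟙 _ ≫ v = 𝟙 _ ≫ v
      rfl
    · intro h
      refine (Le.of_map v h).comp (Over.homMk (𝟙 _) ?_)
      change 𝟙 _ ≫ 𝟙 _ ≫ v = v
      rw [Category.id_comp, Category.id_comp]
  have hm₁ : Mono ((Over.pullback v).map i₁) := inferInstance
  have hm₂ : Mono ((Over.pullback v).map i₂) := inferInstance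
  rw [hv, hv]
  constructor
  · rintro ⟨h1, h2⟩
    obtain ⟨a, ha⟩ := h1 _ (toUnit _) (𝟙 (Red.bc v H₁))
    obtain ⟨b, hb⟩ := h2 _ (toUnit _) (𝟙 (Red.bc v H₂))
    rw [Category.id_comp] at ha hb
    refine ⟨⟨a, b, ?_, ?_⟩, ha⟩
    · rw [← cancel_mono ((Over.pullback v).map i₁), Category.assoc, hb, ha, Category.id_comp]
    · rw [← cancel_mono ((Over.pullback v).map i₂), Category.assoc, ha, hb, Category.id_comp]
  · rintro ⟨ψ, hψ⟩
    refine ⟨fun X _ h => ⟨h ≫ ψ.hom, by rw [Category.assoc, hψ]⟩, fun X _ h => ⟨h ≫ ψ.inv, ?_⟩⟩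
    rw [Category.assoc, ← hψ, Iso.inv_hom_id_assoc]

end K9.SubLoc
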