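import Groth.Agent.SGA3x.K9.Glue
import Mathlib.AlgebraicGeometry.Morphisms.Etale

/-!
# Factorisation through a monomorphism is local for flat, locally finitely presented coverings
-/

set_option autoImplicit false
universe u

open CategoryTheory CategoryTheory.Limits AlgebraicGeometry Opposite

namespace K9.EtGlue

theorem generate_mem {X : Scheme.{u}} {I : Type*} (Y : I → Scheme.{u}) (f : ∀ i, Y i ⟶ X) [∀ i, Flat (f i)]
    [∀ i, LocallyOfFinitePresentation (f i)] (h : ∀ x : X, ∃ i, x ∈ Set.range (f i)) :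
    Sieve.generate (Presieve.ofArrows Y f) ∈ Scheme.fpqcTopology X := by
  refine Precoverage.generate_mem_toGrothendieck (Scheme.fppfPrecoverage_le_fpqcPrecoverage _ ?_)
  change _ ∈ Scheme.precoverage _ _
  rw [Scheme.ofArrows_mem_precoverage_iff]
  exact ⟨h, fun i => ⟨inferInstance, inferInstance⟩⟩

/-- A morphism which factors through a monomorphism on the members of an fpqc covering sieve does so. -/
theorem factor_of_sieve {X Y Z : Scheme.{u}} (g : X ⟶ Y) (m : Z ⟶ Y) [Mono m] (R : Sieve X)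
    (hR : R ∈ Scheme.fpqcTopology X) (h : ∀ (W : Scheme.{u}) (r : W ⟶ X), R r → ∃ z : W ⟶ Z, z ≫ m = r ≫ g) :
    ∃ z : X ⟶ Z, z ≫ m = g := by
  choose z hz using h
  let fam : Presieve.FamilyOfElements (yoneda.obj Z) R.arrows := fun W r hr => z W r hr
  have hcomp : fam.Compatible := by
    rw [Presieve.compatible_iff_sieveCompatible]
    intro W V r g' hr
    change z V (g' ≫ r) _ = g' ≫ z W r hr
    rw [← cancel_mono m, hz, Category.assoc, Category.assoc, hz]
  obtain ⟨t, ht, -⟩ := (Glue.isSheaf_yoneda Z) _ hR fam hcomp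
  refine ⟨t, ?_⟩
  refine ((Glue.isSheaf_yoneda Y).isSeparated _ hR).ext fun W r hr => ?_
  change r ≫ t ≫ m = r ≫ g
  have h1 : r ≫ t = z W r hr := ht r hr
  rw [← Category.assoc, h1, hz]

theorem factor_of_etale {X Y Z : Scheme.{u}} (g : X ⟶ Y) (m : Z ⟶ Y) [Mono m]
    (h : ∀ x : X, ∃ (W : Scheme.{u}) (r : W ⟶ X), Etale r ∧ x ∈ Set.range r ∧ ∃ z : W ⟶ Z, z ≫ m = r ≫ g) :
    ∃ z : X ⟶ Z, z ≫ m = g := by
  choose W r hr hx z hz using h
  have h1 : ∀ x, Flat (r x) := fun x => inferInstance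
  have h2 : ∀ x, LocallyOfFinitePresentation (r x) := fun x => inferInstance
  refine factor_of_sieve g m _ (generate_mem W r fun x => ⟨x, hx x⟩) ?_
  rintro V _ ⟨_, q, _, ⟨x⟩, rfl⟩
  exact ⟨q ≫ z x, by rw [Category.assoc, hz, Category.assoc]⟩

end K9.EtGlue
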