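import Groth.Agent.SGA3x.K11.FactNoeth
import Mathlib.LinearAlgebra.TensorProduct.Quotient

/-!
# The factorisation theorem, the target being arbitrary

`f : X ⟶ Y` a morphism of `S`-schemes, `X` locally of finite presentation over `S` (no condition on `Y` and on `S`). If
`X ×_Y X ⟶ X` is flat and locally of finite presentation, then `f` is an fppf cover followed by a monomorphism.
-/

set_option autoImplicit false

universe u

open CategoryTheory Limits AlgebraicGeometry TensorProduct

namespace K9.FactGen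

open Groth.Agent.GrpQ.H773.HasFact Groth.Agent.Sga3C.QuotRel K11.FactNoeth

variable {X Y : Scheme.{u}}

/-- The kernel of `B ⊗[R] B ⟶ B ⊗[A] B` is generated by the differences. -/
theorem ker_le_span (R A B : Type u) [CommRing R] [CommRing A] [CommRing B] [Algebra R A]
    [Algebra A B] [Algebra R B] [IsScalarTower R A B] (x : B ⊗[R] B)
    (hx : Algebra.TensorProduct.mapOfCompatibleSMul A R B B B x = 0) :
    x ∈ Ideal.span (Set.range fun a : A => (algebraMap A B a ⊗ₜ 1 - 1 ⊗ₜ algebraMap A B a : B ⊗[R] B)) := by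
  have h1 : x ∈ (TensorProduct.mapOfCompatibleSMul A R A B B).ker := hx
  rw [TensorProduct.AlgebraTensorModule.ker_mapOfCompatibleSMul] at h1
  clear hx
  induction h1 using Submodule.span_induction with
  | mem x h =>
    obtain ⟨a, m, n, rfl⟩ := h
    have : (a • m) ⊗ₜ[R] n - m ⊗ₜ[R] (a • n) =
        (m ⊗ₜ[R] n) * (algebraMap A B a ⊗ₜ 1 - 1 ⊗ₜ algebraMap A B a : B ⊗[R] B) := by
      rw [mul_sub, Algebra.TensorProduct.tmul_mul_tmul, Algebra.TensorProduct.tmul_mul_tmul, mul_one, mul_one,
        Algebra.smul_def, Algebra.smul_def, mul_comm (algebraMap A B a), mul_comm (algebraMap A B a)]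
    rw [this]
    exact Ideal.mul_mem_left _ _ (Ideal.subset_span ⟨a, rfl⟩)
  | zero => exact Ideal.zero_mem _
  | add x y _ _ hx hy => exact Ideal.add_mem _ hx hy
  | smul a x _ hx =>
    rw [Algebra.smul_def]
    exact Ideal.mul_mem_left _ _ hx

/-- The coincidence of two ring maps out of `B` on the image of `A` is a finite condition. -/
theorem exists_finset (R A B : Type u) [CommRing R] [CommRing A] [CommRing B] [Algebra R A]
    [Algebra A B] [Algebra R B] [IsScalarTower R A B] [Algebra.FinitePresentation R B]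
    [Algebra.FinitePresentation B (B ⊗[A] B)] :
    ∃ T : Finset A, ∀ (C : Type u) [CommRing C] (φ ψ : B →+* C),
      (∀ r : R, φ (algebraMap R B r) = ψ (algebraMap R B r)) →
      (∀ t ∈ T, φ (algebraMap A B t) = ψ (algebraMap A B t)) →
      ∀ a : A, φ (algebraMap A B a) = ψ (algebraMap A B a) := by
  let d : A → B ⊗[R] B := fun a => algebraMap A B a ⊗ₜ 1 - 1 ⊗ₜ algebraMap A B a
  obtain ⟨s, hs⟩ : (Ideal.span (Set.range d)).FG := by
    let m := Algebra.TensorProduct.mapOfCompatibleSMul A R B B B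
    have h1 : (RingHom.ker m.toRingHom).FG := Algebra.FinitePresentation.ker_fG_of_surjective m
      (Algebra.TensorProduct.mapOfCompatibleSMul_surjective A R B B B)
    have h2 : Ideal.span (Set.range d) = RingHom.ker m.toRingHom := by
      refine le_antisymm ?_ fun x hx => ker_le_span R A B x hx
      rw [Ideal.span_le]
      rintro _ ⟨a, rfl⟩
      change m (algebraMap A B a ⊗ₜ 1 - 1 ⊗ₜ algebraMap A B a) = 0
      rw [map_sub, Algebra.TensorProduct.mapOfCompatibleSMul_tmul, Algebra.TensorProduct.mapOfCompatibleSMul_tmul,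
        Algebra.algebraMap_eq_smul_one, TensorProduct.smul_tmul, sub_self]
    rwa [h2]
  obtain ⟨t', ht', hspan⟩ := (Submodule.fg_span_iff_fg_span_finset_subset (R := B ⊗[R] B) (Set.range d)).1
    ⟨s, hs⟩
  classical
  obtain ⟨T, hT⟩ : ∃ T : Finset A, t' ⊆ T.image d := by
    choose! c hc using fun x (hx : x ∈ (t' : Set (B ⊗[R] B))) => ht' hx
    exact ⟨t'.image c, fun x hx => Finset.mem_image.2 ⟨c x, Finset.mem_image_of_mem c hx, hc x hx⟩⟩
  refine ⟨T, fun C _ φ ψ hR hT' a => ?_⟩
  let _ : Algebra R C := (φ.comp (algebraMap R B)).toAlgebra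
  let φ' : B →ₐ[R] C := ⟨φ, fun r => rfl⟩
  let ψ' : B →ₐ[R] C := ⟨ψ, fun r => (hR r).symm⟩
  let m : B ⊗[R] B →ₐ[R] C := Algebra.TensorProduct.lift φ' ψ' (fun _ _ => Commute.all _ _)
  have hm : ∀ a : A, m (d a) = φ (algebraMap A B a) - ψ (algebraMap A B a) := by
    intro a
    simp [d, m, φ', ψ']
  have hle : Ideal.span (Set.range d) ≤ RingHom.ker m.toRingHom := by
    have h0 : (Ideal.span (Set.range d)) = Ideal.span (t' : Set (B ⊗[R] B)) := hspan
    rw [h0, Ideal.span_le]
    intro x hx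
    obtain ⟨y, hy, rfl⟩ := Finset.mem_image.1 (hT hx)
    change m (d y) = 0
    rw [hm, hT' y hy, sub_self]
  have := hle (Ideal.subset_span ⟨a, rfl⟩)
  have h1 : m (d a) = 0 := this
  rwa [hm, sub_eq_zero] at h1

/-- The affine case. -/
theorem hasFact_affine (R A B : Type u) [CommRing R] [CommRing A] [CommRing B] [Algebra R A]
    [Algebra A B] [Algebra R B] [IsScalarTower R A B] [Algebra.FinitePresentation R B]
    [Flat (pullback.fst (Spec.map (CommRingCat.ofHom (algebraMap A B)))
      (Spec.map (CommRingCat.ofHom (algebraMap A B))))]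
    [LocallyOfFinitePresentation (pullback.fst (Spec.map (CommRingCat.ofHom (algebraMap A B)))
      (Spec.map (CommRingCat.ofHom (algebraMap A B))))] :
    HasFact (Spec.map (CommRingCat.ofHom (algebraMap A B))) := by
  have hfp : Algebra.FinitePresentation B (B ⊗[A] B) := by
    have h1 : LocallyOfFinitePresentation (Spec.map (CommRingCat.ofHom (algebraMap B (B ⊗[A] B)))) := by
      have h2 := pullbackSpecIso_inv_fst A B B
      have h3 : Spec.map (CommRingCat.ofHom (algebraMap B (B ⊗[A] B))) = (pullbackSpecIso A B B).inv ≫ pullback.fst _ _ := by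
        rw [h2]
      rw [h3]
      infer_instance
    rw [LocallyOfFinitePresentation.SpecMap_iff] at h1
    exact RingHom.finitePresentation_algebraMap.1 h1
  obtain ⟨T, hT⟩ := exists_finset R A B
  let A₀ := Algebra.adjoin R (T : Set A)
  have hA₀ : Algebra.FiniteType R A₀ := (Subalgebra.fg_iff_finiteType _).1 ⟨T, rfl⟩
  have hBp : Algebra.FinitePresentation A₀ B :=
    Algebra.FinitePresentation.of_restrict_scalars_finitePresentation R A₀ B
  let f := Spec.map (CommRingCat.ofHom (algebraMap A B))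
  let π := Spec.map (CommRingCat.ofHom (algebraMap A₀ A))
  have hfπ : f ≫ π = Spec.map (CommRingCat.ofHom (algebraMap A₀ B)) := by
    rw [← Spec.map_comp]; rfl
  have hker : ∀ {T : Scheme.{u}} (a b : T ⟶ Spec (CommRingCat.of B)),
      a ≫ f ≫ π = b ≫ f ≫ π → a ≫ f = b ≫ f := by
    intro W a b hab
    let ev : (W ⟶ Spec (CommRingCat.of B)) → (B →+* Γ(W, ⊤)) := fun a =>
      ((Scheme.ΓSpecIso (CommRingCat.of B)).inv ≫ a.appTop).hom
    have key : ∀ {A' : Type u} [CommRing A'] (α : A' →+* B) (c : W ⟶ Spec (CommRingCat.of B)) (x : A'),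
        ((Scheme.ΓSpecIso (CommRingCat.of A')).inv ≫
          (c ≫ Spec.map (CommRingCat.ofHom α)).appTop).hom x = ev c (α x) := by
      intro A' _ α c x
      rw [Scheme.Hom.comp_appTop, ← Scheme.ΓSpecIso_inv_naturality_assoc]
      rfl
    apply ext_to_Spec
    ext x
    refine (key (algebraMap A B) a x).trans (Eq.trans ?_ (key (algebraMap A B) b x).symm)
    refine hT _ (ev a) (ev b) (fun r => ?_) (fun t ht => ?_) x
    · have h3 := key (algebraMap A₀ B) a (algebraMap R A₀ r)
      have h4 := key (algebraMap A₀ B) b (algebraMap R A₀ r)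
      rw [← IsScalarTower.algebraMap_apply] at h3 h4
      rw [← h3, ← h4, ← hfπ, hab]
    · have h3 := key (algebraMap A₀ B) a ⟨t, Algebra.subset_adjoin ht⟩
      have h4 := key (algebraMap A₀ B) b ⟨t, Algebra.subset_adjoin ht⟩
      have h5 : algebraMap A₀ B ⟨t, Algebra.subset_adjoin ht⟩ = algebraMap A B t := rfl
      rw [h5] at h3 h4
      rw [← h3, ← h4, ← hfπ, hab]
  have h1 : LocallyOfFinitePresentation (f ≫ π) := by
    rw [hfπ, LocallyOfFinitePresentation.SpecMap_iff]
    exact RingHom.finitePresentation_algebraMap.2 hBp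
  have h2 : Flat (pullback.fst (f ≫ π) (f ≫ π)) := by
    have h3 := isPullback_of_ker f π hker
    rw [← h3.isoPullback_inv_fst]
    infer_instance
  exact of_comp f π hker (Groth.Agent.GrpQ.H773.Main.hasFact (f ≫ π))

/-- **The factorisation theorem** for an arbitrary target over an arbitrary base. -/
theorem hasFact {S : Scheme.{u}} (p : Y ⟶ S) (f : X ⟶ Y) [LocallyOfFinitePresentation (f ≫ p)]
    [Flat (pullback.fst f f)] [LocallyOfFinitePresentation (pullback.fst f f)] : HasFact f := by
  refine of_cover f fun x => ?_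
  obtain ⟨W, hW, hxW, -⟩ := exists_isAffineOpen_mem_and_subset (x := p (f x)) (U := ⊤) trivial
  obtain ⟨V, hV, hxV, hVW⟩ := exists_isAffineOpen_mem_and_subset (x := f x) (U := p ⁻¹ᵁ W) hxW
  obtain ⟨U, hU, hxU, hUV⟩ := exists_isAffineOpen_mem_and_subset (x := x) (U := f ⁻¹ᵁ V) hxV
  have hUV' : U ≤ f ⁻¹ᵁ V := hUV
  have hVW' : V ≤ p ⁻¹ᵁ W := hVW
  have hUW : U ≤ (f ≫ p) ⁻¹ᵁ W := fun y hy => hVW' (hUV' hy)
  let _ : Algebra Γ(S, W) Γ(Y, V) := (p.appLE W V hVW').hom.toAlgebra
  let _ : Algebra Γ(Y, V) Γ(X, U) := (f.appLE V U hUV').hom.toAlgebra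
  let _ : Algebra Γ(S, W) Γ(X, U) := ((f ≫ p).appLE W U hUW).hom.toAlgebra
  have hT : IsScalarTower Γ(S, W) Γ(Y, V) Γ(X, U) := by
    refine IsScalarTower.of_algebraMap_eq' ?_
    change ((f ≫ p).appLE W U hUW).hom = (f.appLE V U hUV').hom.comp (p.appLE W V hVW').hom
    rw [← CommRingCat.hom_comp, Scheme.Hom.appLE_comp_appLE]
  have hft : Algebra.FinitePresentation Γ(S, W) Γ(X, U) := (f ≫ p).finitePresentation_appLE hW hU hUW
  have hg : Spec.map (f.appLE V U hUV') ≫ hV.fromSpec = hU.fromSpec ≫ f :=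
    hV.SpecMap_appLE_fromSpec f hU hUV'
  have hfl : Flat (pullback.fst (Spec.map (f.appLE V U hUV')) (Spec.map (f.appLE V U hUV'))) := by
    rw [← Groth.Agent.GrpQ.H773.Assemble.flat_fst_comp_mono_iff _ _ hV.fromSpec, hg]
    exact flat_fst_of_isOpenImmersion f _ _
  have hlf : LocallyOfFinitePresentation
      (pullback.fst (Spec.map (f.appLE V U hUV')) (Spec.map (f.appLE V U hUV'))) := by
    have h1 := isPullback_of_ker (Spec.map (f.appLE V U hUV')) hV.fromSpec fun a b hab => by
      rwa [← Category.assoc, ← Category.assoc, cancel_mono] at hab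
    have h2 : LocallyOfFinitePresentation (pullback.fst (hU.fromSpec ≫ f) (hU.fromSpec ≫ f)) :=
      lfp_fst_of_isOpenImmersion f _ _
    rw [← hg] at h2
    rw [← h1.isoPullback_hom_fst]
    infer_instance
  have hfact : HasFact (Spec.map (f.appLE V U hUV')) :=
    hasFact_affine Γ(S, W) Γ(Y, V) Γ(X, U)
  have hfact' : HasFact (hU.fromSpec ≫ f) := by
    rw [← hg]
    exact hfact.comp_mono hV.fromSpec
  refine ⟨U, hxU, ?_⟩
  refine HasFact.of_iso hU.isoSpec.symm ?_
  have h5 : hU.isoSpec.symm.hom ≫ U.ι = hU.fromSpec := rfl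
  rwa [← Category.assoc, h5]

end K9.FactGen
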