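import Mathlib.Algebra.MonoidAlgebra.Basic
import Mathlib.RingTheory.TensorProduct.Maps
import Mathlib.RingTheory.Ideal.Quotient.Operations

/-!
# The coefficient of one determines a quotient which is a group algebra

`u : A →ₐ[R] B[M]`, `u' : A →ₐ[R] B[M']` (`M`, `M'` groups) with `B`-spans everything.  If the coefficients at `1` of
`u a` and `u' a` are equal for all `a`, then `u' = φ ∘ u` for an algebra map `φ : B[M] →ₐ[B] B[M']`.
-/

set_option autoImplicit false
universe u

open TensorProduct

namespace K9.HaarAlg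

variable {R A B : Type u} [CommRing R] [CommRing A] [CommRing B] [Algebra R A] [Algebra R B]
  {M M' : Type} [CommGroup M] [CommGroup M']

/-- the `B`-linear extension -/
noncomputable def ext (u : A →ₐ[R] MonoidAlgebra B M) : B ⊗[R] A →ₐ[B] MonoidAlgebra B M :=
  Algebra.TensorProduct.lift (Algebra.ofId B _) u fun _ _ => Commute.all _ _

@[simp] lemma ext_tmul (u : A →ₐ[R] MonoidAlgebra B M) (b : B) (a : A) : ext u (b ⊗ₜ a) = algebraMap B _ b * u a := by
  simp [ext, Algebra.ofId_apply]

/-- the coefficient at one -/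
noncomputable def c1 (B : Type u) [CommRing B] (M : Type) [CommGroup M] : MonoidAlgebra B M →ₗ[B] B where
  toFun x := x.coeff 1
  map_add' x y := by simp
  map_smul' b x := by simp

lemma c1_apply (x : MonoidAlgebra B M) : c1 B M x = x.coeff 1 := rfl

lemma ext_one_tmul (u : A →ₐ[R] MonoidAlgebra B M) (a : A) : ext u (1 ⊗ₜ a) = u a := by
  rw [ext_tmul, map_one, one_mul]

lemma c1_single_one (b : B) : c1 B M (MonoidAlgebra.single 1 b) = b := by
  simp [c1_apply]

lemma c1_single (m : M) (b : B) [DecidableEq M] : c1 B M (MonoidAlgebra.single m b) = if m = 1 then b else 0 := by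
  simp [c1_apply, Finsupp.single_apply]

lemma c1_mapDomain (f : M →* M') (hf : Function.Injective f) (z : MonoidAlgebra B M) :
    c1 B M' (MonoidAlgebra.mapDomainAlgHom R B f z) = c1 B M z := by
  classical
  induction z using MonoidAlgebra.induction_linear with
  | zero => simp
  | add x y hx hy => rw [map_add, map_add, hx, hy, map_add]
  | single m b =>
    rw [MonoidAlgebra.mapDomainAlgHom_apply, MonoidAlgebra.mapDomain_single, c1_single, c1_single]
    have : f m = 1 ↔ m = 1 := map_eq_one_iff f hf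
    simp only [this]

/-- The pairing is nondegenerate. -/
lemma eq_zero_of_c1 (x : MonoidAlgebra B M) (h : ∀ y, c1 B M (x * y) = 0) : x = 0 := by
  ext m
  have h1 := h (MonoidAlgebra.single m⁻¹ 1)
  rw [c1_apply, MonoidAlgebra.coeff_mul_single_eq_coeff_mul m (fun m' _ => mul_inv_eq_one), mul_one] at h1
  rw [h1]
  rfl

/-- the spans of the images are everything -/
def Gen (u : A →ₐ[R] MonoidAlgebra B M) : Prop := Function.Surjective (ext u)

lemma mem_ker_iff {u : A →ₐ[R] MonoidAlgebra B M} (hu : Gen u) (z : B ⊗[R] A) :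
    ext u z = 0 ↔ ∀ w, c1 B M (ext u (z * w)) = 0 := by
  constructor
  · intro h w
    rw [map_mul, h, zero_mul, map_zero]
  · intro h
    refine eq_zero_of_c1 _ fun y => ?_
    obtain ⟨w, rfl⟩ := hu y
    rw [← map_mul]
    exact h w

lemma c1_ext_eq {u : A →ₐ[R] MonoidAlgebra B M} {u' : A →ₐ[R] MonoidAlgebra B M'}
    (h : ∀ a, c1 B M (u a) = c1 B M' (u' a)) (z : B ⊗[R] A) : c1 B M (ext u z) = c1 B M' (ext u' z) := by
  induction z with
  | zero => simp
  | add x y hx hy => rw [map_add, map_add, hx, hy, map_add, map_add]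
  | tmul b a => rw [ext_tmul, ext_tmul, ← Algebra.smul_def, ← Algebra.smul_def, map_smul, map_smul, h]

/-- **The coefficient of one determines the quotient.** -/
theorem exists_algHom {u : A →ₐ[R] MonoidAlgebra B M} {u' : A →ₐ[R] MonoidAlgebra B M'} (hu : Gen u) (hu' : Gen u')
    (h : ∀ a, c1 B M (u a) = c1 B M' (u' a)) : ∃ φ : MonoidAlgebra B M →ₐ[B] MonoidAlgebra B M', ∀ a, φ (u a) = u' a := by
  have hk : ∀ z : B ⊗[R] A, z ∈ RingHom.ker (ext u) → ext u' z = 0 := by
    intro z hz
    rw [mem_ker_iff hu']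
    intro w
    rw [← c1_ext_eq h]
    rw [RingHom.mem_ker, mem_ker_iff hu] at hz
    exact hz w
  refine ⟨(Ideal.Quotient.liftₐ (RingHom.ker (ext u)) (ext u') hk).comp
    (Ideal.quotientKerAlgEquivOfSurjective hu).symm.toAlgHom, fun a => ?_⟩
  have h1 : (Ideal.quotientKerAlgEquivOfSurjective hu).symm (u a) =
      Ideal.Quotient.mk (RingHom.ker (ext u)) (1 ⊗ₜ a) := by
    rw [AlgEquiv.symm_apply_eq]
    exact (ext_one_tmul u a).symm
  change (Ideal.Quotient.liftₐ (RingHom.ker (ext u)) (ext u') hk) ((Ideal.quotientKerAlgEquivOfSurjective hu).symm (u a)) = u' a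
  rw [h1]
  exact ext_one_tmul u' a

end K9.HaarAlg
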