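import Groth.Agent.SGA3x.K9.HaarPt
import Groth.Agent.SGA3x.K9.EtGlue
import Mathlib.Algebra.MvPolynomial.Eval

/-!
# The Haar map

`G = Spec A` affine over `Spec R`, `χ : D(Γ) ⊗ Spec C ⟶ G` a family of monomorphisms.

* `hm e χ : Spec C ⟶ Spec R[A]` the morphism given by the Haar functional;
* `eq_of_related`: points at which the members of two families are related by an isomorphism have the same image;
* `same_of_eq`: at points with the same image the members of the families have the same images.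
-/

set_option autoImplicit false
universe u
open CategoryTheory MonoidalCategory CartesianMonoidalCategory MonObj GrpObj AlgebraicGeometry Limits

namespace K9.HaarMap

open Groth.Agent Groth.Agent.SGA3x.K5.Clopen Groth.Agent.Sga3B Groth.Agent.Sga3B.DSPts Groth.Agent.Sga3B.InfConj
  Groth.Agent.Sga3B.TorTransp K204.MonoScheme K9.HaarAlg K9.HaarPt

section general

variable {S : Scheme.{u}} {H G X : Over S} [GrpObj H] [GrpObj G] {χ : H ⊗ X ⟶ G}

lemma mono_fam (hom : AutFam.IsHomFamily H G χ) (triv : Triv χ) : Mono (lift χ (snd H X)) where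
  right_cancellation {T} a b hab := by
    have h2 : a ≫ snd H X = b ≫ snd H X := by
      have := congrArg (· ≫ snd G X) hab
      simpa only [Category.assoc, lift_snd] using this
    have h1 : a ≫ χ = b ≫ χ := by
      have := congrArg (· ≫ fst G X) hab
      simpa only [Category.assoc, lift_fst] using this
    have ha : a = lift (a ≫ fst H X) (b ≫ snd H X) := by
      rw [← h2, ← comp_lift, lift_fst_snd, Category.comp_id]
    have hb : b = lift (b ≫ fst H X) (b ≫ snd H X) := by
      rw [← comp_lift, lift_fst_snd, Category.comp_id]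
    have h3 : a ≫ fst H X = b ≫ fst H X := by
      refine triv.inj hom (b ≫ snd H X) ?_
      rw [← ha, ← hb, h1]
    rw [ha, h3]
    exact hb.symm

/-- Points of the members of a family of monomorphisms are étale local. -/
theorem exists_of_etale (hom : AutFam.IsHomFamily H G χ) (triv : Triv χ) {T : Over S} (t : T ⟶ X) (γ : T ⟶ G)
    (h : ∀ x : T.left, ∃ (V : Over S) (c : V ⟶ T), Etale c.left ∧ x ∈ Set.range c.left ∧
      ∃ d, lift d (c ≫ t) ≫ χ = c ≫ γ) : ∃ d, lift d t ≫ χ = γ := by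
  have hm := mono_fam hom triv
  have hm' : Mono (lift χ (snd H X)).left := inferInstance
  obtain ⟨z, hz⟩ := K9.EtGlue.factor_of_etale (lift γ t : T ⟶ G ⊗ X).left (lift χ (snd H X)).left fun x => by
    obtain ⟨V, c, hc, hx, d, hd⟩ := h x
    refine ⟨V.left, c.left, hc, hx, (lift d (c ≫ t)).left, ?_⟩
    rw [← Over.comp_left, ← Over.comp_left, comp_lift, comp_lift, lift_snd, hd]
  let z' : T ⟶ H ⊗ X := Over.homMk z (by
    have h1 := Over.w (lift γ t)
    rw [← hz, Category.assoc, Over.w (lift χ (snd H X))] at h1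
    exact h1)
  have hz' : z' ≫ lift χ (snd H X) = lift γ t := Over.OverMorphism.ext hz
  have h1 : z' ≫ χ = γ := by
    have := congrArg (· ≫ fst G X) hz'
    simpa only [Category.assoc, lift_fst] using this
  have h2 : z' ≫ snd H X = t := by
    have := congrArg (· ≫ snd G X) hz'
    simpa only [Category.assoc, lift_snd] using this
  refine ⟨z' ≫ fst H X, ?_⟩
  rw [← h1, ← h2, ← comp_lift, lift_fst_snd, Category.comp_id]

end general

variable {R : Type u} [CommRing R] {G : Over (Spec (CommRingCat.of R))} {A : Type u} [CommRing A] [Algebra R A]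
  (e : pt R A ≅ G) {Γ Δ : Type} [AddCommGroup Γ] [AddCommGroup Δ]

section points

variable {X X' : Over (Spec (CommRingCat.of R))}
  (χ : Red.DS (Spec (CommRingCat.of R)) Γ ⊗ X ⟶ G) (χ' : Red.DS (Spec (CommRingCat.of R)) Δ ⊗ X' ⟶ G)
  {E E' : Type u} [CommRing E] [Algebra R E] [CommRing E'] [Algebra R E']

/-- the point of the affine space given by the Haar functional -/
noncomputable def hp (x : pt R E ⟶ X) : pt R E ⟶ pt R (MvPolynomial A R) :=
  ptMap (MvPolynomial.aeval (haar e χ x))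

lemma comp_hp (φ : E →ₐ[R] E') (x : pt R E ⟶ X) : ptMap φ ≫ hp e χ x = hp e χ (ptMap φ ≫ x) := by
  rw [hp, hp, ptMap_comp]
  congr 1
  apply MvPolynomial.algHom_ext
  intro a
  rw [MvPolynomial.aeval_X, AlgHom.comp_apply, MvPolynomial.aeval_X, haar_comp]

lemma hp_eq_iff (x : pt R E ⟶ X) (x' : pt R E ⟶ X') :
    hp e χ x = hp e χ' x' ↔ ∀ a, haar e χ x a = haar e χ' x' a := by
  constructor
  · intro h a
    have h1 := DFunLike.congr_fun (ptMap_injective h) (MvPolynomial.X a)
    rwa [MvPolynomial.aeval_X, MvPolynomial.aeval_X] at h1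
  · intro h
    rw [hp, hp]
    congr 2
    exact funext h

end points

section maps

variable {C C' : Type u} [CommRing C] [Algebra R C] [CommRing C'] [Algebra R C']
  (χ : Red.DS (Spec (CommRingCat.of R)) Γ ⊗ pt R C ⟶ G) (χ' : Red.DS (Spec (CommRingCat.of R)) Δ ⊗ pt R C' ⟶ G)

/-- **The Haar map.** -/
noncomputable def hm : pt R C ⟶ pt R (MvPolynomial A R) := hp e χ (𝟙 _)

lemma comp_hm {E : Type u} [CommRing E] [Algebra R E] (x : pt R E ⟶ pt R C) : x ≫ hm e χ = hp e χ x := by
  obtain ⟨φ, rfl⟩ := exists_eq_ptMap x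
  rw [hm, comp_hp, Category.comp_id]

variable {Z : Over (Spec (CommRingCat.of R))} (a : Z ⟶ pt R C) (b : Z ⟶ pt R C')

/-- **Points with related members have the same image.** -/
theorem eq_of_related (ε : Δ →+ Γ) (hε : Function.Injective ε)
    (h : ∀ (T : Over (Spec (CommRingCat.of R))) (t : T ⟶ Z) (d : T ⟶ Red.DS (Spec (CommRingCat.of R)) Γ),
      lift d (t ≫ a) ≫ χ = lift (d ≫ Red.DSmap (Spec (CommRingCat.of R)) ε) (t ≫ b) ≫ χ') :
    a ≫ hm e χ = b ≫ hm e χ' := by
  refine hom_ext_of_etale _ _ fun z => ?_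
  obtain ⟨E, _, _, j, hj, hz⟩ := exists_pt Z z
  refine ⟨pt R E, j, inferInstance, hz, ?_⟩
  rw [← Category.assoc, ← Category.assoc, comp_hm, comp_hm, hp_eq_iff]
  refine haar_eq e χ χ' ε hε _ _ fun T t d => ?_
  rw [← Category.assoc, ← Category.assoc]
  exact h T (t ≫ j) d

variable [GrpObj G] [IsAffineHom G.hom] [AddGroup.FG Γ] [AddGroup.FG Δ]

variable {a b χ χ'} in
lemma exists_of_eq (hom : AutFam.IsHomFamily (Red.DS (Spec (CommRingCat.of R)) Γ) G χ) (triv : Triv χ)
    (hom' : AutFam.IsHomFamily (Red.DS (Spec (CommRingCat.of R)) Δ) G χ') (triv' : Triv χ')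
    (h : a ≫ hm e χ = b ≫ hm e χ') {T : Over (Spec (CommRingCat.of R))} (t : T ⟶ Z) (γ : T ⟶ G)
    (hγ : ∃ d, lift d (t ≫ b) ≫ χ' = γ) : ∃ d, lift d (t ≫ a) ≫ χ = γ := by
  refine exists_of_etale hom triv _ _ fun x => ?_
  obtain ⟨E, _, _, j, hj, hz⟩ := exists_pt T x
  refine ⟨pt R E, j, inferInstance, hz, ?_⟩
  have h1 : (j ≫ t ≫ a) ≫ hm e χ = (j ≫ t ≫ b) ≫ hm e χ' := by
    simp only [Category.assoc, h]
  rw [comp_hm, comp_hm, hp_eq_iff] at h1
  obtain ⟨d, hd⟩ := hγ
  have := exists_of_haar e χ χ' hom triv hom' triv' _ _ h1 (AlgHom.id R E) (j ≫ γ) ⟨j ≫ d, by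
    rw [ptMap_id, Category.id_comp, ← comp_lift, Category.assoc, hd]⟩
  rwa [ptMap_id, Category.id_comp] at this

variable {a b χ χ'} in
/-- **Points with the same image have members with the same image.** -/
theorem same_of_eq (hom : AutFam.IsHomFamily (Red.DS (Spec (CommRingCat.of R)) Γ) G χ) (triv : Triv χ)
    (hom' : AutFam.IsHomFamily (Red.DS (Spec (CommRingCat.of R)) Δ) G χ') (triv' : Triv χ')
    (h : a ≫ hm e χ = b ≫ hm e χ') {T : Over (Spec (CommRingCat.of R))} (t : T ⟶ Z) (γ : T ⟶ G) :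
    (∃ d, lift d (t ≫ a) ≫ χ = γ) ↔ ∃ d, lift d (t ≫ b) ≫ χ' = γ :=
  ⟨exists_of_eq e hom' triv' hom triv h.symm t γ, exists_of_eq e hom triv hom' triv' h t γ⟩

end maps

end K9.HaarMap
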