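import Groth.Agent.SGA3x.K9.HaarAlg
import Groth.Agent.SGA3x.K5.MTNorm
import Groth.Agent.SGA3x.K204.MonoScheme
import Groth.Agent.SGA3x.K12.MonoNhd
import Groth.Agent.SGA3x.K6.HomDS
import Groth.Agent.Sga3B.TorTransp
import Groth.Agent.SGA3x.K18.Raw

/-!
# The Haar functional of a family of homomorphisms `D(Γ) ⟶ G`

`S = Spec R`, `G = Spec A` affine over `S`, `χ : D(Γ) ⊗ X ⟶ G` a family and `x` an `E`-point of `X`:

* `co e χ x : A →ₐ[R] E[Γ]` the algebra map of the member of the family at `x`;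
* `haar e χ x a` the coefficient of `1` of `co e χ x a`; `haar_comp` functoriality in `E`;
* `haar_eq`: the Haar functionals of families related by an isomorphism `Δ ≃+ Γ` are equal;
* `exists_iff_of_haar`: families of closed immersions with the same Haar functional have the same images.
-/

set_option autoImplicit false
universe u
open CategoryTheory MonoidalCategory CartesianMonoidalCategory MonObj GrpObj AlgebraicGeometry Limits
open scoped TensorProduct

namespace K9.HaarPt

open Groth.Agent Groth.Agent.SGA3x.K5.Clopen Groth.Agent.Sga3B Groth.Agent.Sga3B.DSPts Groth.Agent.Sga3B.InfConj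
  Groth.Agent.Sga3B.TorTransp K204.MonoScheme K9.HaarAlg Groth.Agent.Sga3.H827

variable {R : Type u} [CommRing R] {G : Over (Spec (CommRingCat.of R))} {A : Type u} [CommRing A] [Algebra R A]
  (e : pt R A ≅ G) {Γ Δ : Type} [AddCommGroup Γ] [AddCommGroup Δ] {X X' : Over (Spec (CommRingCat.of R))}
  (χ : Red.DS (Spec (CommRingCat.of R)) Γ ⊗ X ⟶ G) (χ' : Red.DS (Spec (CommRingCat.of R)) Δ ⊗ X' ⟶ G)
  {E E' : Type u} [CommRing E] [Algebra R E] [CommRing E'] [Algebra R E']

/-- the universal member of the family at `x` -/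
noncomputable def uni (x : pt R E ⟶ X) : pt R (MonoidAlgebra E (Multiplicative Γ)) ⟶ G :=
  lift (uchar E Γ) (ptMap (inc E Γ) ≫ x) ≫ χ

/-- the algebra map of the member of the family at `x` -/
noncomputable def co (x : pt R E ⟶ X) : A →ₐ[R] MonoidAlgebra E (Multiplicative Γ) :=
  (exists_eq_ptMap (uni χ x ≫ e.inv)).choose

lemma ptMap_co (x : pt R E ⟶ X) : ptMap (co e χ x) = uni χ x ≫ e.inv :=
  (exists_eq_ptMap (uni χ x ≫ e.inv)).choose_spec.symm

lemma ptMap_co_comp (x : pt R E ⟶ X) : ptMap (co e χ x) ≫ e.hom = uni χ x := by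
  rw [ptMap_co, Category.assoc, Iso.inv_hom_id, Category.comp_id]

lemma uni_comp (φ : E →ₐ[R] E') (x : pt R E ⟶ X) :
    uni χ (ptMap φ ≫ x) = ptMap (MonoidAlgebra.mapAlgHom (Multiplicative Γ) φ) ≫ uni χ x := by
  rw [uni, uni, ← Category.assoc (ptMap (MonoidAlgebra.mapAlgHom (Multiplicative Γ) φ)), comp_lift,
    ptMap_mapAlgHom_uchar, ptMap_mapAlgHom_inc_assoc]

lemma co_comp (φ : E →ₐ[R] E') (x : pt R E ⟶ X) :
    co e χ (ptMap φ ≫ x) = (MonoidAlgebra.mapAlgHom (Multiplicative Γ) φ).comp (co e χ x) := by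
  apply ptMap_injective
  rw [ptMap_co, uni_comp, ← ptMap_comp, ptMap_co, Category.assoc]

/-- **The Haar functional.** -/
noncomputable def haar (x : pt R E ⟶ X) (a : A) : E := c1 E (Multiplicative Γ) (co e χ x a)

lemma haar_comp (φ : E →ₐ[R] E') (x : pt R E ⟶ X) (a : A) : haar e χ (ptMap φ ≫ x) a = φ (haar e χ x a) := by
  rw [haar, co_comp, haar, c1_apply, c1_apply]
  simp

/-- the points of the member of the family at `x` -/
lemma exists_iff (φ : E →ₐ[R] E') (x : pt R E ⟶ X) (g : A →ₐ[R] E') :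
    (∃ d : pt R E' ⟶ Red.DS (Spec (CommRingCat.of R)) Γ, lift d (ptMap φ ≫ x) ≫ χ = ptMap g ≫ e.hom) ↔
      ∃ ψ : MonoidAlgebra E (Multiplicative Γ) →ₐ[R] E', ψ.comp (inc E Γ) = φ ∧ ψ.comp (co e χ x) = g := by
  constructor
  · rintro ⟨d, hd⟩
    obtain ⟨h, h1, h2⟩ := exists_pair (ptMap φ) d
    obtain ⟨ψ, rfl⟩ := exists_eq_ptMap h
    refine ⟨ψ, ptMap_injective (by rw [← ptMap_comp, h1]), ptMap_injective ?_⟩
    rw [← ptMap_comp, ptMap_co, uni, ← Category.assoc, ← Category.assoc, comp_lift, h2, ← Category.assoc (ptMap ψ), h1,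
      hd, Category.assoc, Iso.hom_inv_id, Category.comp_id]
  · rintro ⟨ψ, rfl, rfl⟩
    refine ⟨ptMap ψ ≫ uchar E Γ, ?_⟩
    rw [← ptMap_comp, ← ptMap_comp, Category.assoc, Category.assoc, ptMap_co_comp, uni,
      ← Category.assoc (ptMap ψ) (lift _ _), comp_lift]

/-- **The Haar functionals of related families are equal.** -/
theorem haar_eq (ε : Δ →+ Γ) (hε : Function.Injective ε) (x : pt R E ⟶ X) (x' : pt R E ⟶ X')
    (h : ∀ (T : Over (Spec (CommRingCat.of R))) (t : T ⟶ pt R E) (d : T ⟶ Red.DS (Spec (CommRingCat.of R)) Γ),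
      lift d (t ≫ x) ≫ χ = lift (d ≫ Red.DSmap (Spec (CommRingCat.of R)) ε) (t ≫ x') ≫ χ') (a : A) :
    haar e χ x a = haar e χ' x' a := by
  let D : MonoidAlgebra E (Multiplicative Δ) →ₐ[R] MonoidAlgebra E (Multiplicative Γ) :=
    MonoidAlgebra.mapDomainAlgHom R E (AddMonoidHom.toMultiplicative ε)
  have e1 : uchar (R := R) E Γ ≫ Red.DSmap _ ε = ptMap D ≫ uchar E Δ := by
    rw [uchar, uchar, KerLoc.charPt_DSmap, ptMap_charPt]
    congr 1
    ext m
    simp [D]
  have e2 : ptMap (C := R) (inc E Γ) = ptMap D ≫ ptMap (inc E Δ) := by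
    rw [ptMap_comp]
    congr 1
    apply AlgHom.ext
    intro y
    simp [D, inc]
  have e3 : uni χ x = ptMap D ≫ uni χ' x' := by
    rw [uni, h _ (ptMap (inc E Γ)) (uchar E Γ), e1, e2, uni, ← Category.assoc (ptMap D) (lift _ _), comp_lift,
      Category.assoc]
  have e4 : co e χ x = D.comp (co e χ' x') := by
    apply ptMap_injective
    rw [ptMap_co, e3, ← ptMap_comp, ptMap_co, Category.assoc]
  have e5 : ∀ z, c1 E _ (D z) = c1 E _ z := c1_mapDomain _ hε
  rw [haar, haar, e4]
  exact e5 _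

/-- The universal point of `D(Γ) ⊗ Spec E`. -/
lemma isIso_pair (E : Type u) [CommRing E] [Algebra R E] (Γ : Type) [AddCommGroup Γ] :
    IsIso (lift (uchar E Γ) (ptMap (inc E Γ)) :
      pt R (MonoidAlgebra E (Multiplicative Γ)) ⟶ Red.DS (Spec (CommRingCat.of R)) Γ ⊗ pt R E) := by
  obtain ⟨h, h1, h2⟩ := exists_pair (snd (Red.DS (Spec (CommRingCat.of R)) Γ) (pt R E)) (fst _ _)
  refine ⟨h, ?_, ?_⟩
  · obtain ⟨θ, hθ⟩ := exists_eq_ptMap (lift (uchar E Γ) (ptMap (inc E Γ)) ≫ h)
    rw [hθ]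
    have e1 : θ.comp (inc E Γ) = inc E Γ := by
      apply ptMap_injective
      rw [← ptMap_comp, ← hθ, Category.assoc, h1, lift_snd]
    have e2 : ((θ : MonoidAlgebra E (Multiplicative Γ) →* MonoidAlgebra E (Multiplicative Γ)).comp
        (MonoidAlgebra.of E (Multiplicative Γ))) = MonoidAlgebra.of E (Multiplicative Γ) := by
      apply K12.MonoNhd.charPt_injective (C := R)
      rw [← ptMap_charPt, ← hθ]
      change (lift (uchar E Γ) (ptMap (inc E Γ)) ≫ h) ≫ uchar E Γ = uchar E Γ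
      rw [Category.assoc, h2, lift_fst]
    have e3 : θ = AlgHom.id R _ := by
      refine MonoidAlgebra.algHom_ext (fun m => ?_) (AlgHom.ext fun y => ?_)
      · exact DFunLike.congr_fun e2 m
      · exact DFunLike.congr_fun e1 y
    rw [e3, ptMap_id]
  · apply CartesianMonoidalCategory.hom_ext
    · rw [Category.assoc, lift_fst, h2, Category.id_comp]
    · rw [Category.assoc, lift_snd, h1, Category.id_comp]

section gen

variable [GrpObj G]

/-- A closed immersion between affine schemes is given by a surjection. -/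
lemma surjective_of_isClosedImmersion {A₁ B₁ : CommRingCat.{u}} (φ : A₁ ⟶ B₁) [IsClosedImmersion (Spec.map φ)] :
    Function.Surjective φ := by
  have h1 := (IsClosedImmersion.isAffine_surjective_of_isAffine (Spec.map φ)).2
  have h2 : φ = (Scheme.ΓSpecIso A₁).inv ≫ (Spec.map φ).appTop ≫ (Scheme.ΓSpecIso B₁).hom := by
    rw [← Scheme.ΓSpecIso_inv_naturality_assoc, Iso.inv_hom_id, Category.comp_id]
  rw [h2]
  exact ((ConcreteCategory.bijective_of_isIso (Scheme.ΓSpecIso B₁).hom).2.comp h1).comp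
    (ConcreteCategory.bijective_of_isIso (Scheme.ΓSpecIso A₁).inv).2

omit [GrpObj G] in
lemma famMap_left {S : Scheme.{u}} {H G X : Over S} (χ : H ⊗ X ⟶ G) : (famMap χ).left = (lift χ (snd H X)).left := by
  have h1 : (lift ((BcPts.bcEquiv X.hom _ H).symm (𝟙 _)) (st (Red.bc X.hom H))).left = 𝟙 _ := by
    apply pullback.hom_ext
    · refine (congrArg (fun z => z.left) (lift_fst ((BcPts.bcEquiv X.hom _ H).symm (𝟙 _)) (st (Red.bc X.hom H)))).trans ?_
      rw [K18.Raw.bcEquiv_symm_left]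
      rfl
    · refine (congrArg (fun z => z.left) (lift_snd ((BcPts.bcEquiv X.hom _ H).symm (𝟙 _)) (st (Red.bc X.hom H)))).trans ?_
      exact (Category.id_comp _).symm
  apply pullback.hom_ext
  · refine Eq.trans ?_ (congrArg (fun z => z.left) (lift_fst χ (snd H X))).symm
    refine (K18.Raw.bcEquiv_left_fst _).trans ?_
    rw [Over.comp_left, h1]
    exact Category.id_comp _
  · refine Eq.trans ?_ (congrArg (fun z => z.left) (lift_snd χ (snd H X))).symm
    exact Over.w (famMap χ)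

/-- The algebra maps of families of monomorphisms generate. -/
theorem gen [IsAffineHom G.hom] [AddGroup.FG Γ]
    (hom : AutFam.IsHomFamily (Red.DS (Spec (CommRingCat.of R)) Γ) G χ) (triv : Triv χ) (x : pt R E ⟶ X) :
    Gen (co e χ x) := by
  let χx : Red.DS (Spec (CommRingCat.of R)) Γ ⊗ pt R E ⟶ G := (Red.DS (Spec (CommRingCat.of R)) Γ ◁ x) ≫ χ
  have h1 : AutFam.IsHomFamily (Red.DS (Spec (CommRingCat.of R)) Γ) G χx := isHomFamily_comp hom x
  have h2 : Triv χx := triv.comp x
  have h3 := isMonHom_famMap h1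
  have hmt : SGA3x.IsMultTypeFT (Red.DS (Spec (CommRingCat.of R)) Γ) :=
    _root_.K10.MTLoc.of_split inferInstance ⟨Iso.refl _⟩
  have h4 : Mono (famMap χx) := by
    refine K12.TrivKer.mono_of_ker (A := Red.bc (pt R E).hom (Red.DS _ Γ)) (B := Red.bc (pt R E).hom G) (famMap χx)
      fun T y hy => ?_
    have h5 := (triv_iff χx (𝟙 _)).1 (h2.comp (𝟙 _))
    exact h5 T T.hom (Category.comp_id _) y hy
  have h5 : IsAffineHom (Red.bc (pt R E).hom G).hom := inferInstanceAs (IsAffineHom (pullback.snd _ _))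
  have h6 : IsClosedImmersion (famMap χx).left :=
    SGA3x.K5.MTNorm.isClosedImmersion_of_mono (famMap χx) (_root_.K10.MTLoc.bc _ hmt)
  rw [famMap_left] at h6
  have hw := isIso_pair (R := R) E Γ
  let w := (lift (uchar E Γ) (ptMap (inc E Γ)) :
      pt R (MonoidAlgebra E (Multiplicative Γ)) ⟶ Red.DS (Spec (CommRingCat.of R)) Γ ⊗ pt R E)
  have h7 : w ≫ lift χx (snd _ _) = lift (uni χ x) (ptMap (inc E Γ)) := by
    rw [comp_lift, lift_snd]
    congr 1
    change w ≫ (Red.DS (Spec (CommRingCat.of R)) Γ ◁ x) ≫ χ = _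
    rw [← Category.assoc, lift_whiskerLeft]
    rfl
  have h8 : IsClosedImmersion (lift (uni χ x) (ptMap (inc E Γ))).left := by
    rw [← h7, Over.comp_left]
    have : IsIso w.left := inferInstanceAs (IsIso ((Over.forget _).map w))
    infer_instance
  -- comparison with the spectrum of `E ⊗ A`
  let U : (E ⊗[R] A) →ₐ[R] MonoidAlgebra E (Multiplicative Γ) := (ext (co e χ x)).restrictScalars R
  let m : pt R (E ⊗[R] A) ⟶ G ⊗ pt R E := lift (ptMap Algebra.TensorProduct.includeRight ≫ e.hom)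
    (ptMap (Algebra.TensorProduct.includeLeft (S := R)))
  have h9 : ptMap U ≫ m = lift (uni χ x) (ptMap (inc E Γ)) := by
    have e1 : U.comp Algebra.TensorProduct.includeRight = co e χ x := by
      apply AlgHom.ext
      intro a
      exact ext_one_tmul _ a
    have e2 : U.comp (Algebra.TensorProduct.includeLeft (S := R)) = inc E Γ := by
      apply AlgHom.ext
      intro y
      change ext (co e χ x) (y ⊗ₜ 1) = _
      rw [ext_tmul, map_one, _root_.mul_one]
      rfl
    rw [comp_lift, ← Category.assoc, ptMap_comp, ptMap_comp, e1, e2, ptMap_co_comp]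
  have h10 : IsClosedImmersion (ptMap U).left := by
    have h11 : IsClosedImmersion ((ptMap U).left ≫ m.left) := by
      rw [← Over.comp_left, h9]
      exact h8
    have h12 : IsSeparated m.left := by
      have h13 : IsSeparated (m.left ≫ (G ⊗ pt R E).hom) := by
        rw [Over.w m]
        infer_instance
      exact IsSeparated.of_comp m.left (G ⊗ pt R E).hom
    exact IsClosedImmersion.of_comp (ptMap U).left m.left
  have h11 : IsClosedImmersion (Spec.map (CommRingCat.ofHom U.toRingHom)) := h10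
  exact surjective_of_isClosedImmersion (CommRingCat.ofHom U.toRingHom)

/-- **Families of monomorphisms with the same Haar functional have the same images.** -/
theorem exists_of_haar [IsAffineHom G.hom] [AddGroup.FG Γ] [AddGroup.FG Δ]
    (hom : AutFam.IsHomFamily (Red.DS (Spec (CommRingCat.of R)) Γ) G χ) (triv : Triv χ)
    (hom' : AutFam.IsHomFamily (Red.DS (Spec (CommRingCat.of R)) Δ) G χ') (triv' : Triv χ')
    (x : pt R E ⟶ X) (x' : pt R E ⟶ X') (h : ∀ a, haar e χ x a = haar e χ' x' a) (φ : E →ₐ[R] E') (γ : pt R E' ⟶ G)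
    (hγ : ∃ d, lift d (ptMap φ ≫ x') ≫ χ' = γ) : ∃ d, lift d (ptMap φ ≫ x) ≫ χ = γ := by
  obtain ⟨g, hg⟩ := exists_eq_ptMap (γ ≫ e.inv)
  have hg' : γ = ptMap g ≫ e.hom := by rw [← hg, Category.assoc, Iso.inv_hom_id, Category.comp_id]
  rw [hg'] at hγ ⊢
  rw [exists_iff] at hγ ⊢
  obtain ⟨ψ, h1, h2⟩ := hγ
  obtain ⟨Φ, hΦ⟩ := exists_algHom (gen e χ hom triv x) (gen e χ' hom' triv' x') h
  refine ⟨ψ.comp (Φ.restrictScalars R), ?_, ?_⟩
  · rw [← h1]
    apply AlgHom.ext
    intro y
    exact congrArg ψ (Φ.commutes y)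
  · rw [← h2]
    apply AlgHom.ext
    intro a
    exact congrArg ψ (hΦ a)

end gen

/-- Affine open neighbourhoods of a point. -/
lemma exists_pt (Z : Over (Spec (CommRingCat.of R))) (z : Z.left) :
    ∃ (E : Type u) (_ : CommRing E) (_ : Algebra R E) (j : pt R E ⟶ Z), IsOpenImmersion j.left ∧
      z ∈ Set.range j.left := by
  obtain ⟨U, hU, hz, -⟩ := exists_isAffineOpen_mem_and_subset (x := z) (U := ⊤) trivial
  let φ := Spec.preimage (hU.fromSpec ≫ Z.hom)
  let _ : Algebra R Γ(Z.left, U) := φ.hom.toAlgebra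
  refine ⟨Γ(Z.left, U), inferInstance, inferInstance, Over.homMk hU.fromSpec (by
    change hU.fromSpec ≫ Z.hom = Spec.map (CommRingCat.ofHom φ.hom)
    exact (Spec.map_preimage _).symm), ?_, ?_⟩
  · exact inferInstanceAs (IsOpenImmersion hU.fromSpec)
  · change z ∈ Set.range hU.fromSpec
    rw [hU.range_fromSpec]
    exact hz

end K9.HaarPt
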