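import Groth.Agent.SGA3x.K9.HaarMap
import Groth.Agent.SGA3x.K204.FinMTFam

/-!
# The relation "same image" on schemes of monomorphisms `D(Γ) ⟶ G`

* `exists_rel`: points of two families of monomorphisms with the same images are locally related by `Δ ≃+ Γ`;
* `eq_of_same`: points of affine charts with the same images have the same image under the Haar map;
* `exists_isOpenImmersion`: for affine charts of the scheme of monomorphisms `D(Γ) ⟶ G` the projections of the fibre
  product over the Haar map are local isomorphisms.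
-/

set_option autoImplicit false
universe u
open CategoryTheory MonoidalCategory CartesianMonoidalCategory MonObj GrpObj AlgebraicGeometry Limits

namespace K9.MTSubLoc

open Groth.Agent Groth.Agent.SGA3x.K5.Clopen Groth.Agent.Sga3B Groth.Agent.Sga3B.DSPts Groth.Agent.Sga3B.InfConj
  Groth.Agent.Sga3B.TorTransp K204.MonoScheme K204.FinMTLoc K9.HaarAlg K9.HaarPt K9.HaarMap

section rel

variable {S : Scheme.{u}} {G : Over S} [GrpObj G] {Γ Δ : Type} [AddCommGroup Γ] [AddCommGroup Δ]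

/-- Points of families with the same images are locally related. -/
theorem exists_rel [AddGroup.FG Γ] [AddGroup.FG Δ] {X X' Z : Over S} {χ : Red.DS S Γ ⊗ X ⟶ G}
    {χ' : Red.DS S Δ ⊗ X' ⟶ G} (hom : AutFam.IsHomFamily (Red.DS S Γ) G χ) (triv : Triv χ)
    (hom' : AutFam.IsHomFamily (Red.DS S Δ) G χ') (triv' : Triv χ') (a : Z ⟶ X) (b : Z ⟶ X')
    (hsame : ∀ (T : Over S) (t : T ⟶ Z) (γ : T ⟶ G),
      (∃ d, lift d (t ≫ a) ≫ χ = γ) ↔ (∃ d, lift d (t ≫ b) ≫ χ' = γ)) (z : Z.left) :
    ∃ U : Z.left.Opens, z ∈ U ∧ ∃ ε : Δ ≃+ Γ, ∀ (T : Over S) (t : T ⟶ Z) (d : T ⟶ Red.DS S Γ),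
      Set.range t.left ⊆ (U : Set Z.left) →
        lift d (t ≫ a) ≫ χ = lift (d ≫ Red.DSmap S ε.toAddMonoidHom) (t ≫ b) ≫ χ' := by
  have h1 : Module.Finite ℤ Γ := Module.Finite.iff_addGroup_fg.2 inferInstance
  have h2 : Module.Finite ℤ Δ := Module.Finite.iff_addGroup_fg.2 inferInstance
  obtain ⟨U, hz, ε, hε⟩ := exists_near_equiv (S := S) (Z := Z.left) Z.hom ((Red.DS S Γ ◁ a) ≫ χ) ((Red.DS S Δ ◁ b) ≫ χ')
    (isHomFamily_comp hom a) (isHomFamily_comp hom' b) (triv.comp a) (triv'.comp b) (fun T t γ => by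
      have := hsame T t γ
      simpa only [lift_whisker] using this) z
  refine ⟨U, hz, ε, fun T t d ht => ?_⟩
  have := hε T d t ht
  simpa only [lift_whisker] using this

end rel

variable {R : Type u} [CommRing R] {G : Over (Spec (CommRingCat.of R))} {A : Type u} [CommRing A] [Algebra R A]
  (e : pt R A ≅ G) {Γ Δ : Type} [AddCommGroup Γ] [AddCommGroup Δ] {C C' : Type u} [CommRing C] [Algebra R C]
  [CommRing C'] [Algebra R C'] [GrpObj G] [AddGroup.FG Γ] [AddGroup.FG Δ]

/-- Points with the same images have the same image under the Haar map. -/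
theorem eq_of_same {χ : Red.DS (Spec (CommRingCat.of R)) Γ ⊗ pt R C ⟶ G}
    {χ' : Red.DS (Spec (CommRingCat.of R)) Δ ⊗ pt R C' ⟶ G}
    (hom : AutFam.IsHomFamily (Red.DS (Spec (CommRingCat.of R)) Γ) G χ) (triv : Triv χ)
    (hom' : AutFam.IsHomFamily (Red.DS (Spec (CommRingCat.of R)) Δ) G χ') (triv' : Triv χ')
    {Z : Over (Spec (CommRingCat.of R))} (a : Z ⟶ pt R C) (b : Z ⟶ pt R C')
    (hsame : ∀ (T : Over (Spec (CommRingCat.of R))) (t : T ⟶ Z) (γ : T ⟶ G),
      (∃ d, lift d (t ≫ a) ≫ χ = γ) ↔ (∃ d, lift d (t ≫ b) ≫ χ' = γ)) : a ≫ hm e χ = b ≫ hm e χ' := by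
  refine hom_ext_of_etale _ _ fun z => ?_
  obtain ⟨U, hz, ε, hε⟩ := exists_rel hom triv hom' triv' a b hsame z
  let j : Over.mk (U.ι ≫ Z.hom) ⟶ Z := Over.homMk U.ι rfl
  refine ⟨_, j, inferInstanceAs (Etale U.ι), ?_, ?_⟩
  · change z ∈ Set.range U.ι
    rw [Scheme.Opens.range_ι]
    exact hz
  · rw [← Category.assoc, ← Category.assoc]
    refine eq_of_related e χ χ' (j ≫ a) (j ≫ b) ε.toAddMonoidHom ε.injective fun T t d => ?_
    rw [← Category.assoc, ← Category.assoc]
    refine hε T (t ≫ j) d ?_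
    rintro _ ⟨y, rfl⟩
    change (t.left ≫ U.ι) y ∈ U
    rw [Scheme.Hom.comp_apply]
    exact (t.left y).2

/-- Points of the fibre product over the Haar map give isomorphisms of the character groups. -/
theorem exists_equiv [IsAffineHom G.hom] {χ : Red.DS (Spec (CommRingCat.of R)) Γ ⊗ pt R C ⟶ G}
    {χ' : Red.DS (Spec (CommRingCat.of R)) Δ ⊗ pt R C' ⟶ G}
    (hom : AutFam.IsHomFamily (Red.DS (Spec (CommRingCat.of R)) Γ) G χ) (triv : Triv χ)
    (hom' : AutFam.IsHomFamily (Red.DS (Spec (CommRingCat.of R)) Δ) G χ') (triv' : Triv χ')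
    (z : ↥(pullback (hm e χ).left (hm e χ').left)) : Nonempty (Δ ≃+ Γ) := by
  let Z : Over (Spec (CommRingCat.of R)) := Over.mk (pullback.fst (hm e χ).left (hm e χ').left ≫ (pt R C).hom)
  let a : Z ⟶ pt R C := Over.homMk (pullback.fst _ _) rfl
  let b : Z ⟶ pt R C' := Over.homMk (pullback.snd _ _) (by
    change pullback.snd _ _ ≫ (pt R C').hom = pullback.fst _ _ ≫ (pt R C).hom
    rw [← Over.w (hm e χ), ← Over.w (hm e χ'), pullback.condition_assoc])
  have hab : a ≫ hm e χ = b ≫ hm e χ' := by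
    ext1
    exact pullback.condition
  obtain ⟨U, hz, ε, hε⟩ := exists_rel hom triv hom' triv' a b
    (fun T t γ => same_of_eq e hom triv hom' triv' hab t γ) z
  exact ⟨ε⟩

instance : MorphismProperty.HasOfPostcompProperty @IsOpenImmersion (MorphismProperty.monomorphisms Scheme.{u}) :=
  MorphismProperty.hasOfPostcompProperty_iff_le_diagonal.mpr fun _ _ f hf => by
    have : Mono f := hf
    exact inferInstanceAs (IsOpenImmersion (pullback.diagonal f))

lemma isOpenImmersion_of_comp_mono {X Y Z : Scheme.{u}} (f : X ⟶ Y) (g : Y ⟶ Z) [Mono g] (h : IsOpenImmersion (f ≫ g)) :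
    IsOpenImmersion f :=
  MorphismProperty.of_postcomp (W := @IsOpenImmersion) (W' := MorphismProperty.monomorphisms Scheme.{u}) f g ‹_› h

section chart

variable {P : Over (Spec (CommRingCat.of R))} {χ : Red.DS (Spec (CommRingCat.of R)) Γ ⊗ P ⟶ G} (hχ : Rep χ)
  (p : pt R C ⟶ P) (p' : pt R C' ⟶ P)

/-- the family on a chart -/
noncomputable def cf (χ : Red.DS (Spec (CommRingCat.of R)) Γ ⊗ P ⟶ G) (p : pt R C ⟶ P) :
    Red.DS (Spec (CommRingCat.of R)) Γ ⊗ pt R C ⟶ G :=
  (Red.DS (Spec (CommRingCat.of R)) Γ ◁ p) ≫ χ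

omit [GrpObj G] [AddGroup.FG Γ] in
lemma lift_cf {T : Over (Spec (CommRingCat.of R))} (d : T ⟶ Red.DS (Spec (CommRingCat.of R)) Γ) (t : T ⟶ pt R C) :
    lift d t ≫ cf χ p = lift d (t ≫ p) ≫ χ := lift_whisker d t p χ

include hχ in
omit [AddGroup.FG Γ] in
lemma hom_cf : AutFam.IsHomFamily (Red.DS (Spec (CommRingCat.of R)) Γ) G (cf χ p) := isHomFamily_comp hχ.hom p

include hχ in
omit [AddGroup.FG Γ] in
lemma triv_cf : Triv (cf χ p) := hχ.triv.comp p

omit [AddGroup.FG Γ] in
lemma isIso_act (ε : Γ ≃+ Γ) : IsIso (act hχ ε) :=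
  ⟨act hχ ε.symm, by rw [← act_trans, AddEquiv.self_trans_symm, act_refl],
    by rw [← act_trans, AddEquiv.symm_trans_self, act_refl]⟩

omit [AddGroup.FG Γ] in
theorem isOpenImmersion_fst [IsOpenImmersion p'.left] (ε : Γ ≃+ Γ) {U : Scheme.{u}}
    (j : U ⟶ pullback (hm e (cf χ p)).left (hm e (cf χ p')).left) [IsOpenImmersion j]
    (hj : (j ≫ pullback.fst _ _) ≫ p.left = (j ≫ pullback.snd _ _) ≫ p'.left ≫ (act hχ ε).left) :
    IsOpenImmersion (j ≫ pullback.fst (hm e (cf χ p)).left (hm e (cf χ p')).left) := by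
  have hα := isIso_act hχ ε
  have hα' : IsIso (act hχ ε).left := inferInstanceAs (IsIso ((Over.forget _).map (act hχ ε)))
  let v1 : pullback p.left (p'.left ≫ (act hχ ε).left) ⟶ (pt R C).left := pullback.fst _ _
  let v2 : pullback p.left (p'.left ≫ (act hχ ε).left) ⟶ (pt R C').left := pullback.snd _ _
  have hc : v1 ≫ p.left = v2 ≫ p'.left ≫ (act hχ ε).left := pullback.condition
  let Z : Over (Spec (CommRingCat.of R)) := Over.mk (v1 ≫ (pt R C).hom)
  let a : Z ⟶ pt R C := Over.homMk v1 rfl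
  let b : Z ⟶ pt R C' := Over.homMk v2 (by
    change v2 ≫ (pt R C').hom = v1 ≫ (pt R C).hom
    rw [← Over.w p, ← Category.assoc, hc, ← Over.w p']
    simp only [Category.assoc, Over.w])
  have hab : a ≫ p = b ≫ p' ≫ act hχ ε := by
    ext1
    exact hc
  have hv : a ≫ hm e (cf χ p) = b ≫ hm e (cf χ p') := by
    refine eq_of_related e _ _ a b ε.toAddMonoidHom ε.injective fun T t d => ?_
    rw [lift_cf, lift_cf, ← act_spec hχ, Category.assoc, hab]
    simp only [Category.assoc]
  let v : pullback p.left (p'.left ≫ (act hχ ε).left) ⟶ pullback (hm e (cf χ p)).left (hm e (cf χ p')).left :=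
    pullback.lift v1 v2 (congrArg (fun z => z.left) hv)
  have hv1 : v ≫ pullback.fst _ _ = v1 := pullback.lift_fst _ _ _
  have hv2 : v ≫ pullback.snd _ _ = v2 := pullback.lift_snd _ _ _
  have ho : IsOpenImmersion v1 := inferInstance
  have hvm : Mono v := by
    have : Mono (v ≫ pullback.fst (hm e (cf χ p)).left (hm e (cf χ p')).left) := by
      rw [hv1]
      infer_instance
    exact mono_of_mono v (pullback.fst (hm e (cf χ p)).left (hm e (cf χ p')).left)
  let w : U ⟶ pullback p.left (p'.left ≫ (act hχ ε).left) := pullback.lift (j ≫ pullback.fst _ _) (j ≫ pullback.snd _ _) hj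
  have hw1 : w ≫ v1 = j ≫ pullback.fst _ _ := pullback.lift_fst _ _ _
  have hw2 : w ≫ v2 = j ≫ pullback.snd _ _ := pullback.lift_snd _ _ _
  have hwv : w ≫ v = j := by
    apply pullback.hom_ext
    · rw [Category.assoc, hv1, hw1]
    · rw [Category.assoc, hv2, hw2]
  have hwo : IsOpenImmersion w := isOpenImmersion_of_comp_mono w v (by rw [hwv]; infer_instance)
  rw [← hw1]
  infer_instance

include hχ in
/-- **The projections of the fibre product over the Haar map are local isomorphisms.** -/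
theorem exists_isOpenImmersion [IsAffineHom G.hom] [IsOpenImmersion p'.left]
    (z : ↥(pullback (hm e (cf χ p)).left (hm e (cf χ p')).left)) :
    ∃ U : (pullback (hm e (cf χ p)).left (hm e (cf χ p')).left).Opens, z ∈ U ∧
      IsOpenImmersion (U.ι ≫ pullback.fst (hm e (cf χ p)).left (hm e (cf χ p')).left) := by
  let Z : Over (Spec (CommRingCat.of R)) :=
    Over.mk (pullback.fst (hm e (cf χ p)).left (hm e (cf χ p')).left ≫ (pt R C).hom)
  let a : Z ⟶ pt R C := Over.homMk (pullback.fst _ _) rfl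
  let b : Z ⟶ pt R C' := Over.homMk (pullback.snd _ _) (by
    change pullback.snd _ _ ≫ (pt R C').hom = pullback.fst _ _ ≫ (pt R C).hom
    rw [← Over.w (hm e (cf χ p)), ← Over.w (hm e (cf χ p')), pullback.condition_assoc])
  have hab : a ≫ hm e (cf χ p) = b ≫ hm e (cf χ p') := by
    ext1
    exact pullback.condition
  obtain ⟨U, hz, ε, hε⟩ := exists_rel (hom_cf hχ p) (triv_cf hχ p) (hom_cf hχ p') (triv_cf hχ p') a b
    (fun T t γ => same_of_eq e (hom_cf hχ p) (triv_cf hχ p) (hom_cf hχ p') (triv_cf hχ p') hab t γ) z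
  refine ⟨U, hz, isOpenImmersion_fst e hχ p p' ε U.ι ?_⟩
  let j : Over.mk (U.ι ≫ Z.hom) ⟶ Z := Over.homMk U.ι rfl
  have key : (j ≫ a) ≫ p = ((j ≫ b) ≫ p') ≫ act hχ ε := by
    refine hχ.ext _ _ fun T t d => ?_
    rw [← Category.assoc t (((j ≫ b) ≫ p')), act_spec hχ]
    have := hε T (t ≫ j) d (by
      rintro _ ⟨y, rfl⟩
      change (t.left ≫ U.ι) y ∈ U
      rw [Scheme.Hom.comp_apply]
      exact (t.left y).2)
    rw [lift_cf, lift_cf] at this
    simpa only [Category.assoc] using this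
  have := congrArg (fun z => z.left) key
  rw [Category.assoc] at this
  exact this

end chart

end K9.MTSubLoc
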