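import Groth.Agent.SGA3x.K204.MonoScheme
import Groth.Agent.S5246

/-!
# The scheme of monomorphisms from a group of multiplicative type to a smooth affine group

`exists_rep`: `H` of multiplicative type and of finite type, `G` smooth and affine over `S`: the functor of families of
homomorphisms with trivial kernels is representable by a scheme smooth and separated over `S`.
-/

set_option autoImplicit false
universe u
open CategoryTheory MonoidalCategory CartesianMonoidalCategory MonObj GrpObj AlgebraicGeometry Limits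

namespace K9.MonoHom

open Groth.Agent Groth.Agent.SGA3x Groth.Agent.SGA3x.K5.Clopen Groth.Agent.Sga3B K12.TrivKer K204.MonoScheme

variable {S : Scheme.{u}} {H G : Over S} [GrpObj H] [GrpObj G]

/-- **The scheme of monomorphisms.** -/
theorem exists_rep (hH : SGA3x.IsMultTypeFT H) [IsAffineHom G.hom] [Smooth G.hom] :
    ∃ (P : Over S) (χ : H ⊗ P ⟶ G), AutFam.IsHomFamily H G χ ∧ Triv χ ∧ Smooth P.hom ∧ IsSeparated P.hom ∧
      ∀ (X : Over S) (φ : H ⊗ X ⟶ G), AutFam.IsHomFamily H G φ → Triv φ → ∃! a : X ⟶ P, (H ◁ a) ≫ χ = φ := by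
  obtain ⟨A, υ, ⟨hυ, hrep⟩, hA1, hA2⟩ := Groth.Agent.S5246.result H G hH inferInstance inferInstance
  have hu := isMonHom_famMap hυ
  have hs : IsSeparated (Red.bc A.hom G).hom := inferInstanceAs (IsSeparated (pullback.snd _ _))
  have hl : LocallyOfFinitePresentation (Red.bc A.hom G).hom :=
    inferInstanceAs (LocallyOfFinitePresentation (pullback.snd _ _))
  obtain ⟨W, -, hWT⟩ := K204.MonoClopen.exists_clopen (_root_.K10.MTLoc.bc A.hom hH) (Or.inr hl) (famMap υ)
  let P : Over S := Over.mk (W.ι ≫ A.hom)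
  let inc : P ⟶ A := Over.homMk W.ι rfl
  have hm : Mono inc.left := inferInstanceAs (Mono W.ι)
  have hm' : Mono inc := Over.mono_of_mono_left _
  refine ⟨P, (H ◁ inc) ≫ υ, isHomFamily_comp hυ inc, ?_, inferInstanceAs (Smooth (W.ι ≫ A.hom)),
    inferInstanceAs (IsSeparated (W.ι ≫ A.hom)), fun X φ hφ hφ' => ?_⟩
  · rw [triv_iff, hWT]
    exact (Scheme.Opens.range_ι W).le
  · obtain ⟨a, ha, huniq⟩ := hrep X φ hφ
    have h3 : Set.range a.left ⊆ (W : Set A.left) := by
      rw [← hWT, ← triv_iff, ha]
      exact hφ'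
    have h4 : Set.range a.left ⊆ Set.range W.ι := by rwa [Scheme.Opens.range_ι]
    have h5 := IsOpenImmersion.lift_fac W.ι a.left h4
    let b : X ⟶ P := Over.homMk (IsOpenImmersion.lift W.ι a.left h4) (by
      change _ ≫ W.ι ≫ A.hom = X.hom
      rw [← Category.assoc, h5, Over.w])
    have hb : b ≫ inc = a := by
      ext1
      exact h5
    refine ⟨b, ?_, fun b' hb' => ?_⟩
    · change H ◁ b ≫ (H ◁ inc) ≫ υ = φ
      rw [← Category.assoc, ← MonoidalCategory.whiskerLeft_comp, hb, ha]
    · rw [← cancel_mono inc, hb]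
      refine huniq _ ?_
      change H ◁ (b' ≫ inc) ≫ υ = φ
      rw [MonoidalCategory.whiskerLeft_comp, Category.assoc]
      exact hb'

end K9.MonoHom
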