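import Groth.Agent.SGA3x.K9.MTSubAux
import Groth.Agent.SGA3x.K9.MTSubLoc
import Groth.Agent.SGA3x.K9.MonoHom
import Groth.Agent.SGA3x.K9.FactGen
import Groth.Agent.S0115

/-!
# Subgroups of multiplicative type of a smooth affine group over an affine base

`main`: `G` smooth and affine over `Spec R`: the functor of subgroups of multiplicative type of `G` is representable by a
scheme smooth and separated over `Spec R`.
-/

set_option autoImplicit false
universe u
open CategoryTheory MonoidalCategory CartesianMonoidalCategory MonObj GrpObj AlgebraicGeometry Limits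

namespace K9.MTSubAff

open Groth.Agent Groth.Agent.SGA3x.K5.Clopen Groth.Agent.Sga3B Groth.Agent.Sga3B.BcPts Groth.Agent.Sga3B.MT
  Groth.Agent.Sga3B.Parab Groth.Agent.Redsub.H649.ConjPts K204.MonoScheme K204.FinMTLoc K204.SubRep Groth.Agent.Sga3B.InfConj
  K9.MTSubAux K9.HaarPt K9.HaarMap K9.MTSubLoc Groth.Agent.GrpQ.H773

open K204.FinMTFam (same_of_over exists_point)

/-- An affine scheme over `Spec R` as the spectrum of an algebra. -/
lemma exists_iso_pt {R : Type u} [CommRing R] (G : Over (Spec (CommRingCat.of R))) [IsAffineHom G.hom] :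
    ∃ (A : Type u) (_ : CommRing A) (_ : Algebra R A), Nonempty (pt R A ≅ G) := by
  have h1 : IsAffine G.left := isAffine_of_isAffineHom G.hom
  let φ := Spec.preimage (G.left.isoSpec.inv ≫ G.hom)
  let _ : Algebra R Γ(G.left, ⊤) := φ.hom.toAlgebra
  refine ⟨Γ(G.left, ⊤), inferInstance, inferInstance, ⟨Over.isoMk G.left.isoSpec.symm ?_⟩⟩
  change G.left.isoSpec.inv ≫ G.hom = Spec.map (CommRingCat.ofHom φ.hom)
  exact (Spec.map_preimage _).symm

section same

variable {S : Scheme.{u}} {G : Over S} [GrpObj G] {Γ : Type} [AddCommGroup Γ]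

omit [GrpObj G] in
/-- The subgroups defined by a family and by its pullback. -/
lemma same_pull {P X : Over S} {χ : Red.DS S Γ ⊗ P ⟶ G} (p : X ⟶ P) {h : P.left ⟶ S} (hh : h = P.hom)
    {T : Over P.left} (t : T ⟶ Red.bc h G)
    (ht : ∀ (Y : Over S) (a : Y ⟶ P) (c : Y ⟶ G), Pt t a.left c.left ↔ ∃ d, lift d a ≫ χ = c)
    {h' : X.left ⟶ S} (hh' : h' = X.hom) {T' : Over X.left} (t' : T' ⟶ Red.bc h' G)
    (ht' : ∀ (Y : Over S) (a : Y ⟶ X) (c : Y ⟶ G), Pt t' a.left c.left ↔ ∃ d, lift d a ≫ (Red.DS S Γ ◁ p) ≫ χ = c) :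
    Same t t' p.left (𝟙 _) := by
  subst hh hh'
  refine same_of_over (X := X) _ _ (Over.w p) (Category.id_comp _) fun Y y c => ?_
  have e1 : y.left ≫ p.left = (y ≫ p).left := rfl
  rw [e1, ht, Category.comp_id, ht']
  simp only [lift_whisker]

end same

/-- **Subgroups of multiplicative type of a smooth affine group over an affine base.** -/
theorem main {R : Type u} [CommRing R] (G : Over (Spec (CommRingCat.of R))) [GrpObj G] [IsAffineHom G.hom]
    [Smooth G.hom] :
    ∃ (M : Over (Spec (CommRingCat.of R))) (K : Over M.left) (_ : GrpObj K) (j : K ⟶ Red.bc M.hom G),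
      Smooth M.hom ∧ IsSeparated M.hom ∧ IsMonHom j ∧ IsClosedImmersion j.left ∧ SGA3x.IsMultTypeFT K ∧
      ∀ (T : Scheme.{u}) (f : T ⟶ Spec (CommRingCat.of R)) (K' : Over T) [GrpObj K'] (j' : K' ⟶ Red.bc f G),
        IsMonHom j' → Mono j' → SGA3x.IsMultTypeFT K' →
        ∃! v : T ⟶ M.left, v ≫ M.hom = f ∧ Same j' j (𝟙 _) v := by
  obtain ⟨A, _, _, ⟨e⟩⟩ := exists_iso_pt G
  choose P χ hom triv hsm hsep rep using fun i : Idx =>
    K9.MonoHom.exists_rep (H := Red.DS (Spec (CommRingCat.of R)) (Gp i)) (G := G)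
      (_root_.K10.MTLoc.of_split inferInstance ⟨Iso.refl _⟩)
  have hχ : ∀ i, Rep (χ i) := fun i => ⟨hom i, triv i, rep i⟩
  choose C rC aC p hp hz using fun (x : Σ i : Idx, ↥(P i).left) => exists_pt (P x.1) x.2
  let J : Type u := Σ i : Idx, ↥(P i).left
  let X : J → Scheme.{u} := fun x => (pt R (C x)).left
  let g : ∀ x : J, X x ⟶ (pt R (MvPolynomial A R)).left := fun x => (hm e (cf (χ x.1) (p x))).left
  let F : (∐ X) ⟶ (pt R (MvPolynomial A R)).left := Sigma.desc g
  let π : (pt R (MvPolynomial A R)).left ⟶ Spec (CommRingCat.of R) := (pt R (MvPolynomial A R)).hom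
  have hgπ : ∀ x, g x ≫ π = (pt R (C x)).hom := fun x => Over.w _
  have hsmX : ∀ x, Smooth (pt R (C x)).hom := fun x => by
    have := hp x
    have := hsm x.1
    rw [← Over.w (p x)]
    infer_instance
  have hFπ : Smooth (F ≫ π) := by
    have h1 : F ≫ π = Sigma.desc fun x => (pt R (C x)).hom := by
      apply Sigma.hom_ext
      intro x
      rw [Sigma.ι_desc]
      change Sigma.ι X x ≫ Sigma.desc g ≫ π = _
      rw [Sigma.ι_desc_assoc]
      exact hgπ x
    rw [h1]
    exact IsZariskiLocalAtSource.sigmaDesc (P := @Smooth) hsmX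
  have het : Etale (pullback.fst F F) := by
    refine etale_fst_sigma g ?_
    rintro ⟨i, a⟩ ⟨i', a'⟩ z
    have h1 : Nonempty (Gp i' ≃+ Gp i) := exists_equiv e (hom_cf (hχ i) (p ⟨i, a⟩)) (triv_cf (hχ i) (p ⟨i, a⟩))
      (hom_cf (hχ i') (p ⟨i', a'⟩)) (triv_cf (hχ i') (p ⟨i', a'⟩)) z
    obtain rfl : i' = i := idx_eq h1
    have h2 := hp ⟨i', a'⟩
    exact exists_isOpenImmersion e (hχ i') (p ⟨i', a⟩) (p ⟨i', a'⟩) z
  obtain ⟨Z, q, k₀, hq1, hq2, hq3, hk₀, hqk⟩ := K9.FactGen.hasFact π F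
  let M : Over (Spec (CommRingCat.of R)) := Over.mk (k₀ ≫ π)
  let f : ∀ x, X x ⟶ M.left := fun x => Sigma.ι X x ≫ q
  have hfk : ∀ x, f x ≫ k₀ = g x := fun x => by
    change (Sigma.ι X x ≫ q) ≫ k₀ = g x
    rw [Category.assoc, hqk]
    exact Sigma.ι_desc _ _
  have hf : ∀ x, f x ≫ M.hom = (pt R (C x)).hom := fun x => by
    change f x ≫ k₀ ≫ π = _
    rw [← Category.assoc, hfk, hgπ]
  have fam : ∀ x, ∃ (T : Over (X x)) (_ : GrpObj T) (t : T ⟶ Red.bc (f x ≫ M.hom) G), IsMonHom t ∧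
      IsClosedImmersion t.left ∧ Mono t ∧ SGA3x.IsMultTypeFT T ∧
        ∀ (Y : Over (Spec (CommRingCat.of R))) (a : Y ⟶ pt R (C x)) (c : Y ⟶ G),
        Pt t a.left c.left ↔ ∃ d, lift d a ≫ cf (χ x.1) (p x) = c := fun x =>
    exists_fam (P := pt R (C x)) (χ := cf (χ x.1) (p x)) (hom_cf (hχ x.1) (p x)) (triv_cf (hχ x.1) (p x))
      (h := f x ≫ M.hom) (hf x)
  choose T gT t t1 t2 t3 t5 t6 using fam
  have hcov : EtHom.IsCov f := by
    refine ⟨fun x => inferInstanceAs (Flat (Sigma.ι X x ≫ q)),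
      fun x => inferInstanceAs (LocallyOfFinitePresentation (Sigma.ι X x ≫ q)), fun m => ?_⟩
    obtain ⟨w, hw⟩ := hq1.surj m
    obtain ⟨x, y, hy⟩ := (sigmaOpenCover X).exists_eq w
    exact ⟨x, y, by
      change (Sigma.ι X x ≫ q) y = m
      rw [Scheme.Hom.comp_apply]
      have : (Sigma.ι X x) y = w := hy
      rw [this, hw]⟩
  -- translation
  have htr : ∀ (x y : J) (Z : Scheme.{u}) (a : Z ⟶ X x) (b : Z ⟶ X y)
      (hab : a ≫ f x ≫ M.hom = b ≫ f y ≫ M.hom), (Same (t x) (t y) a b ↔ a ≫ g x = b ≫ g y) := by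
    intro x y Z a b hab
    rw [hf, hf] at hab
    let Z' : Over (Spec (CommRingCat.of R)) := Over.mk (a ≫ (pt R (C x)).hom)
    let a' : Z' ⟶ pt R (C x) := Over.homMk a rfl
    let b' : Z' ⟶ pt R (C y) := Over.homMk b hab.symm
    constructor
    · intro hs
      have h1 := eq_of_same e (hom_cf (hχ x.1) (p x)) (triv_cf (hχ x.1) (p x)) (hom_cf (hχ y.1) (p y))
        (triv_cf (hχ y.1) (p y)) a' b' (fun Y y' c => by
          have h2 := hs Y.left y'.left c.left
          have e1 : y'.left ≫ a = (y' ≫ a').left := rfl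
          have e2 : y'.left ≫ b = (y' ≫ b').left := rfl
          rwa [e1, e2, t6, t6] at h2)
      exact congrArg (fun z => z.left) h1
    · intro hg
      have h1 : a' ≫ hm e (cf (χ x.1) (p x)) = b' ≫ hm e (cf (χ y.1) (p y)) := Over.OverMorphism.ext hg
      refine same_of_over (X := Z') a b (by rw [hf]; rfl) (by rw [hf]; exact hab.symm) fun Y y' c => ?_
      have e1 : y'.left ≫ a = (y' ≫ a').left := rfl
      have e2 : y'.left ≫ b = (y' ≫ b').left := rfl
      rw [e1, e2, t6, t6]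
      exact same_of_eq e (hom_cf (hχ x.1) (p x)) (triv_cf (hχ x.1) (p x)) (hom_cf (hχ y.1) (p y))
        (triv_cf (hχ y.1) (p y)) h1 y' c
  have hsame : ∀ (x y : J) (Z : Scheme.{u}) (a : Z ⟶ X x) (b : Z ⟶ X y), a ≫ f x = b ≫ f y →
      Same (t x) (t y) a b := by
    intro x y Z a b hab
    rw [htr x y Z a b (by rw [← Category.assoc, hab, Category.assoc])]
    have h1 : a ≫ f x ≫ k₀ = b ≫ f y ≫ k₀ := by rw [← Category.assoc, hab, Category.assoc]
    exact (congrArg (a ≫ ·) (hfk x)).symm.trans (h1.trans (congrArg (b ≫ ·) (hfk y)))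
  have heq : ∀ (x y : J) (Z : Scheme.{u}) (a : Z ⟶ X x) (b : Z ⟶ X y),
      a ≫ f x ≫ M.hom = b ≫ f y ≫ M.hom → Same (t x) (t y) a b → a ≫ f x = b ≫ f y := by
    intro x y Z a b hab hs
    rw [htr x y Z a b hab] at hs
    have h1 : (a ≫ f x) ≫ k₀ = (b ≫ f y) ≫ k₀ := by
      rw [Category.assoc, Category.assoc b]
      exact (congrArg (a ≫ ·) (hfk x)).trans (hs.trans (congrArg (b ≫ ·) (hfk y)).symm)
    exact (cancel_mono k₀).1 h1
  obtain ⟨K, gK, k, k1, k2, k3, k4⟩ := exists_univ M f t hcov hsame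
  have hkm : Mono k := Sga3C.ClosedSub.mono_of_left k
  refine ⟨M, K, gK, k, ?_, ?_, k1, k2, ?_, fun T' f' K' _ j' hj1 hj2 hj3 => ?_⟩
  · -- smoothness
    have h1 : Smooth (q ≫ M.hom) := by
      have h2 : q ≫ M.hom = F ≫ π := by
        change q ≫ k₀ ≫ π = _
        rw [← Category.assoc, hqk]
      rw [h2]
      exact hFπ
    exact Groth.Agent.S0115.result q M.hom
  · -- separatedness
    change IsSeparated (k₀ ≫ π)
    infer_instance
  · -- multiplicative type
    refine _root_.K10.MTLoc.of_family f hcov.flat (fun j => ?_) hcov.surj fun j => ?_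
    · have := hcov.flat j
      have := hcov.lfp j
      exact (f j).isOpenMap
    · obtain ⟨e⟩ := k4 j
      exact _root_.K10.MTLoc.of_iso e (t5 j)
  · -- the universal property
    have key : ∀ s : T', ∃ (V : Scheme.{u}) (c : V ⟶ T') (x : J) (a : V ⟶ X x), Etale c ∧ s ∈ Set.range c ∧
        a ≫ f x ≫ M.hom = c ≫ f' ∧ Same j' (t x) c a := by
      intro s
      obtain ⟨B, _, v, N, _, hv, ⟨y, hy⟩, hN, ⟨e'⟩⟩ := _root_.K10.MTLoc.exists_etale_split hj3 s
      have hN' : AddGroup.FG N := hN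
      obtain ⟨i, ⟨ε⟩⟩ := exists_idx N
      have hi1 : IsIso (Red.DSmap (Spec (CommRingCat.of B)) ε.symm.toAddMonoidHom) :=
        K7.DSProp.isIso_DSmap _ _ ε.symm.bijective
      have hi2 : IsMonHom (Red.DSmap (Spec (CommRingCat.of B)) ε.symm.toAddMonoidHom) :=
        K6.HomDS.isMonHom_DSmap _ _
      have e'' : Grp.mk (Red.bc v K') ≅ Grp.mk (Red.DS (Spec (CommRingCat.of B)) (Gp i)) :=
        e' ≪≫ Grp.mkIso' (asIso (Red.DSmap (Spec (CommRingCat.of B)) ε.symm.toAddMonoidHom))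
      obtain ⟨T₀, _, t₀, -, -, -, -, ht₀⟩ := exists_fam (P := P i) (hχ i).hom (hχ i).triv (h := (P i).hom) rfl
      obtain ⟨a, ha1, ha2⟩ := exists_point (hχ i) rfl t₀ ht₀ j' v e''
      let x : J := ⟨i, a y⟩
      have hpx := hp x
      have hcd : pullback.fst a (p x).left ≫ a = pullback.snd a (p x).left ≫ (p x).left := pullback.condition
      refine ⟨pullback a (p x).left, pullback.fst a (p x).left ≫ v, x, pullback.snd a (p x).left, inferInstance,
        ?_, ?_, ?_⟩
      · obtain ⟨w, hw⟩ := hz x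
        obtain ⟨w', hw', -⟩ := Scheme.Pullback.exists_preimage_pullback (f := a) (g := (p x).left) y w hw.symm
        exact ⟨w', by rw [Scheme.Hom.comp_apply, hw', hy]⟩
      · rw [hf, ← Over.w (p x), ← Category.assoc, ← hcd, Category.assoc, Category.assoc]
        exact congrArg (pullback.fst a (p x).left ≫ ·) ha1
      · have h1 := ha2.comp (pullback.fst a (p x).left)
        have h2 := (same_pull (p x) rfl t₀ ht₀ (hf x) (t x) (t6 x)).comp (pullback.snd a (p x).left)
        rw [← hcd, Category.comp_id] at h2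
        exact h1.trans h2
    choose V c σ a c1 c2 c3 c4 using key
    have hm : ∀ j, Mono (t j) := t3
    exact existsUnique_classifying M f t hcov heq k k3 f' j' V c (fun s => inferInstance) (fun s => inferInstance)
      (fun s => ⟨s, c2 s⟩) σ a c3 c4

end K9.MTSubAff
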