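import Groth.Agent.SGA3x.K204.FinMTFam
import Groth.Agent.SGA3x.K5.MTNorm
import Mathlib.AlgebraicGeometry.Morphisms.Etale

/-!
# Preliminaries to the parametrisation of subgroups of multiplicative type

* `Idx`, `Gp`: isomorphism types of finitely generated commutative groups;
* `exists_fam`: the subgroup of `bc P.hom G` defined by a family of monomorphisms `χ : D(Γ) ⊗ P ⟶ G`;
* `etale_fst_sigma`: the kernel pair of `Sigma.desc f` in terms of the `f i`.
-/

set_option autoImplicit false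
universe u
open CategoryTheory MonoidalCategory CartesianMonoidalCategory MonObj GrpObj AlgebraicGeometry Limits

namespace K9.MTSubAux

open Groth.Agent Groth.Agent.SGA3x.K5.Clopen Groth.Agent.Sga3B Groth.Agent.Sga3B.BcPts Groth.Agent.Sga3B.MT
  Groth.Agent.Redsub.H649.ConjPts K204.MonoScheme K204.FinMTLoc K204.SubRep

open K204.FinMTFam (st_eq)

/-! ### isomorphism types of finitely generated commutative groups -/

/-- a quotient of `ℤⁿ` -/
def Pre : Type := Σ n : ℕ, AddSubgroup (Fin n → ℤ)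

/-- the underlying type -/
def Pre.Carrier (a : Pre) : Type := (Fin a.1 → ℤ) ⧸ a.2

instance (a : Pre) : AddCommGroup a.Carrier := inferInstanceAs (AddCommGroup ((Fin a.1 → ℤ) ⧸ a.2))

instance (a : Pre) : AddGroup.FG a.Carrier := by
  have h1 : AddGroup.FG (Fin a.1 → ℤ) := Module.Finite.iff_addGroup_fg.1 inferInstance
  exact inferInstanceAs (AddGroup.FG ((Fin a.1 → ℤ) ⧸ a.2))

/-- isomorphism -/
def preSetoid : Setoid Pre where
  r a b := Nonempty (a.Carrier ≃+ b.Carrier)
  iseqv :=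
    { refl := fun _ => ⟨AddEquiv.refl _⟩
      symm := fun ⟨e⟩ => ⟨e.symm⟩
      trans := fun ⟨e⟩ ⟨e'⟩ => ⟨e.trans e'⟩ }

/-- isomorphism types of finitely generated commutative groups -/
def Idx : Type := Quotient preSetoid

/-- a group of the given type -/
noncomputable def Gp (i : Idx) : Type := (Quotient.out (s := preSetoid) i).Carrier

noncomputable instance (i : Idx) : AddCommGroup (Gp i) :=
  inferInstanceAs (AddCommGroup (Quotient.out (s := preSetoid) i).Carrier)

instance (i : Idx) : AddGroup.FG (Gp i) := inferInstanceAs (AddGroup.FG (Quotient.out (s := preSetoid) i).Carrier)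

lemma exists_idx (N : Type) [AddCommGroup N] [AddGroup.FG N] : ∃ i : Idx, Nonempty (N ≃+ Gp i) := by
  have h0 : Module.Finite ℤ N := Module.Finite.iff_addGroup_fg.2 inferInstance
  obtain ⟨n, f, hf⟩ := Module.Finite.exists_fin' ℤ N
  let a : Pre := ⟨n, f.toAddMonoidHom.ker⟩
  have h1 : Nonempty (N ≃+ a.Carrier) :=
    ⟨(QuotientAddGroup.quotientKerEquivOfSurjective f.toAddMonoidHom hf).symm⟩
  refine ⟨Quotient.mk preSetoid a, ?_⟩
  obtain ⟨e1⟩ := h1
  obtain ⟨e2⟩ : Nonempty ((Quotient.out (s := preSetoid) (Quotient.mk preSetoid a)).Carrier ≃+ a.Carrier) :=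
    Quotient.exact (s := preSetoid) (Quotient.out_eq (s := preSetoid) (Quotient.mk preSetoid a))
  exact ⟨e1.trans e2.symm⟩

lemma idx_eq {i j : Idx} (h : Nonempty (Gp i ≃+ Gp j)) : i = j := by
  have h1 : Quotient.mk preSetoid (Quotient.out (s := preSetoid) i) =
      Quotient.mk preSetoid (Quotient.out (s := preSetoid) j) := Quotient.sound (s := preSetoid) h
  rwa [Quotient.out_eq, Quotient.out_eq] at h1

section fam

variable {S : Scheme.{u}} {G : Over S} [GrpObj G]

/-- **The family of subgroups.** -/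
theorem exists_fam {Γ : Type} [AddCommGroup Γ] [AddGroup.FG Γ] {P : Over S} {χ : Red.DS S Γ ⊗ P ⟶ G}
    (hom : AutFam.IsHomFamily (Red.DS S Γ) G χ) (triv : Triv χ) [IsAffineHom G.hom] {h : P.left ⟶ S} (hh : h = P.hom) :
    ∃ (T : Over P.left) (_ : GrpObj T) (t : T ⟶ Red.bc h G), IsMonHom t ∧ IsClosedImmersion t.left ∧ Mono t ∧
      SGA3x.IsMultTypeFT T ∧ ∀ (X : Over S) (a : X ⟶ P) (γ : X ⟶ G),
        Pt t a.left γ.left ↔ ∃ d, lift d a ≫ χ = γ := by
  subst hh
  have hfg : AddGroup.FG Γ := inferInstance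
  have hm := isMonHom_famMap hom
  have hmt : SGA3x.IsMultTypeFT (Red.DS S Γ) := _root_.K10.MTLoc.of_split hfg ⟨Iso.refl _⟩
  have hmt' : SGA3x.IsMultTypeFT (Red.bc P.hom (Red.DS S Γ)) := _root_.K10.MTLoc.bc _ hmt
  have h2 : Mono (famMap χ) := by
    refine K12.TrivKer.mono_of_ker (A := Red.bc P.hom (Red.DS S Γ)) (B := Red.bc P.hom G) (famMap χ) fun T x hx => ?_
    have h3 := (triv_iff χ (𝟙 P)).1 (triv.comp (𝟙 P))
    exact h3 T T.hom (Category.comp_id _) x hx
  have h5 : IsAffineHom (Red.bc P.hom G).hom := 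
    MorphismProperty.pullback_snd (P := @IsAffineHom) _ _ ‹_›
  have h3 : IsClosedImmersion (famMap χ).left := SGA3x.K5.MTNorm.isClosedImmersion_of_mono (famMap χ) hmt'
  refine ⟨Red.bc P.hom (Red.DS S Γ), inferInstance, famMap χ, hm, h3, h2, hmt', fun X a γ => ?_⟩
  refine (memAt_iff_pt (f := P.hom) (famMap χ) a γ).symm.trans ?_
  constructor
  · rintro ⟨x, hx⟩
    rw [comp_famMap (X := P) χ x] at hx
    have h4 := (bcEquiv P.hom _ G).injective hx
    rw [st_eq a] at h4
    refine ⟨(overIso (f := P.hom) a).inv ≫ (bcEquiv P.hom (Over.mk a.left) (Red.DS S Γ)).symm x, ?_⟩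
    rw [← cancel_epi (overIso (f := P.hom) a).hom, ← h4, ← Category.assoc, comp_lift, Iso.hom_inv_id_assoc]
  · rintro ⟨d, hd⟩
    refine ⟨bcEquiv P.hom (Over.mk a.left) (Red.DS S Γ) ((overIso (f := P.hom) a).hom ≫ d), ?_⟩
    rw [comp_famMap (X := P) χ, Equiv.symm_apply_apply, st_eq a, ← comp_lift, Category.assoc, hd]

end fam

section sigma

variable {J : Type u} {X : J → Scheme.{u}} {Y : Scheme.{u}} (f : ∀ j, X j ⟶ Y)

/-- The kernel pair of `Sigma.desc f`. -/
theorem etale_fst_sigma (h : ∀ (i j : J) (z : ↥(pullback (f i) (f j))), ∃ U : (pullback (f i) (f j)).Opens, z ∈ U ∧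
      IsOpenImmersion (U.ι ≫ pullback.fst (f i) (f j))) :
    Etale (pullback.fst (Sigma.desc f) (Sigma.desc f)) := by
  have h1 : ∀ i j, Etale (pullback.fst (f i) (f j)) := by
    intro i j
    choose U hU hU' using h i j
    let 𝒰 : Scheme.OpenCover.{u} (pullback (f i) (f j)) := Scheme.openCoverOfIsOpenCover _ U (by
      rw [TopologicalSpace.IsOpenCover, eq_top_iff]
      intro w _
      exact TopologicalSpace.Opens.mem_iSup.2 ⟨w, hU w⟩)
    rw [IsZariskiLocalAtSource.iff_of_openCover (P := @Etale) 𝒰]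
    intro z
    have := hU' z
    exact inferInstanceAs (Etale ((U z).ι ≫ pullback.fst (f i) (f j)))
  have h2 : ∀ (i j : J) (g₁ : X i ⟶ Y) (g₂ : X j ⟶ Y), g₁ = f i → g₂ = f j → Etale (pullback.fst g₁ g₂) := by
    rintro i j _ _ rfl rfl
    exact h1 i j
  rw [IsZariskiLocalAtSource.iff_of_openCover (P := @Etale)
    (Scheme.Pullback.openCoverOfLeftRight (sigmaOpenCover X) (sigmaOpenCover X) (Sigma.desc f) (Sigma.desc f))]
  rintro ⟨i, j⟩
  have h3 : (Scheme.Pullback.openCoverOfLeftRight (sigmaOpenCover X) (sigmaOpenCover X) (Sigma.desc f)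
      (Sigma.desc f)).f ⟨i, j⟩ ≫ pullback.fst (Sigma.desc f) (Sigma.desc f) =
      pullback.fst ((sigmaOpenCover X).f i ≫ Sigma.desc f) ((sigmaOpenCover X).f j ≫ Sigma.desc f) ≫
        (sigmaOpenCover X).f i := pullback.lift_fst _ _ _
  rw [h3]
  have := h2 i j ((sigmaOpenCover X).f i ≫ Sigma.desc f) ((sigmaOpenCover X).f j ≫ Sigma.desc f)
    (Sigma.ι_desc _ _) (Sigma.ι_desc _ _)
  have h4 : Etale ((sigmaOpenCover X).f i) := inferInstance
  exact MorphismProperty.comp_mem @Etale _ _ this h4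

end sigma

end K9.MTSubAux
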