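import Groth.Agent.Sga3B.IsoFam

/-!
# Further lemmas on points of base changes and families
-/

set_option autoImplicit false
universe u
open CategoryTheory MonoidalCategory CartesianMonoidalCategory MonObj GrpObj AlgebraicGeometry Limits

namespace K9.PtsAux

open Groth.Agent.Sga3B Groth.Agent.Sga3B.BcPts Groth.Agent.Sga3B.IsoFam

variable {S S' : Scheme.{u}} {f : S' ⟶ S}

lemma ev_map {X Y : Over S} (u : X ⟶ Y) {T : Over S} (x : T ⟶ X) (t : T ⟶ Over.mk f) :
    ev ((Over.pullback f).map u) x t = x ≫ u := by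
  rw [ev, bcEquiv_symm_comp, Equiv.symm_apply_apply, ← Category.assoc, Iso.inv_hom_id_assoc]

lemma lift_fam_map {X Y : Over S} (u : X ⟶ Y) {T : Over S} (x : T ⟶ X) (t : T ⟶ Over.mk f) :
    lift x t ≫ fam ((Over.pullback f).map u) = x ≫ u := by
  rw [lift_fam, ev_map]

/-- Over the structure map of `Y` over `S'`. -/
lemma ev_st {X Z : Over S} (φ : Red.bc f X ⟶ Red.bc f Z) {Y : Over S'} (a : Y ⟶ Red.bc f X) :
    ev φ ((bcEquiv f Y X).symm a) (Over.homMk Y.hom : (Over.map f).obj Y ⟶ Over.mk f) =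
      (bcEquiv f Y Z).symm (a ≫ φ) := by
  let κ : Over.mk (Over.homMk Y.hom : (Over.map f).obj Y ⟶ Over.mk f).left ≅ Y := Over.isoMk (Iso.refl _)
  have h1 : (overIso (Over.homMk Y.hom : (Over.map f).obj Y ⟶ Over.mk f)).hom = (Over.map f).map κ.hom := by
    ext1
    rfl
  have h2 : (overIso (Over.homMk Y.hom : (Over.map f).obj Y ⟶ Over.mk f)).inv = (Over.map f).map κ.inv := by
    ext1
    rfl
  rw [ev, h1, comp_bcEquiv, Equiv.apply_symm_apply, h2, ← comp_bcEquiv_symm, Category.assoc, Iso.inv_hom_id_assoc]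

/-- The point of the base change attached to a point over `S'`. -/
lemma comp_fam {X Z : Over S} (φ : Red.bc f X ⟶ Red.bc f Z) {Y : Over S'} (a : Y ⟶ Red.bc f X) :
    a ≫ φ = bcEquiv f Y Z (lift ((bcEquiv f Y X).symm a) (Over.homMk Y.hom : (Over.map f).obj Y ⟶ Over.mk f) ≫ fam φ) := by
  rw [lift_fam, ev_st, Equiv.apply_symm_apply]

lemma fam_injective {X Z : Over S} {φ φ' : Red.bc f X ⟶ Red.bc f Z} (h : fam φ = fam φ') : φ = φ' := by
  have h1 := comp_fam φ (𝟙 _)
  rw [h, ← comp_fam] at h1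
  simpa using h1

/-- a homomorphism becomes trivial over `S'` iff it is trivial on points over `S'` -/
lemma map_eq_one_iff {X Z : Over S} [GrpObj Z] (v : X ⟶ Z) :
    (Over.pullback f).map v = 1 ↔ ∀ (T : Over S) (_ : T ⟶ Over.mk f) (x : T ⟶ X), x ≫ v = 1 := by
  constructor
  · intro h T t x
    rw [← ev_map (f := f) v x t, h, ev, MonObj.comp_one]
    have h1 : (bcEquiv f (Over.mk t.left) Z).symm 1 = 1 := (bcMulEquiv f _ Z).symm.map_one
    rw [h1, MonObj.comp_one]
  · intro h
    apply fam_injective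
    have h1 : fst _ _ ≫ v = 1 := h (X ⊗ Over.mk f) (snd _ _) (fst _ _)
    rw [fam, ev_map, h1, fam, ev, MonObj.comp_one]
    have h1 : (bcEquiv f (Over.mk (snd X (Over.mk f)).left) Z).symm 1 = 1 := (bcMulEquiv f _ Z).symm.map_one
    rw [h1, MonObj.comp_one]

section unfam

variable {H G T : Over S} [GrpObj G] (D : H ⊗ T ⟶ G)

/-- The homomorphism attached to a family is trivial over `g : V ⟶ T` iff the family is trivial at the points of `T`
which factor through `V`. -/
lemma map_unfam_eq_one_iff {V : Scheme.{u}} (g : V ⟶ T.left) :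
    (Over.pullback g).map (unfam D) = 1 ↔
      ∀ (Y : Over S) (t : Y ⟶ T) (_ : Over.mk t.left ⟶ Over.mk g) (h : Y ⟶ H), lift h t ≫ D = 1 := by
  rw [map_eq_one_iff]
  constructor
  · intro h Y t v a
    let κ : (Over.map T.hom).obj (Over.mk t.left) ≅ Y := Over.isoMk (Iso.refl _) (by
        change 𝟙 _ ≫ Y.hom = t.left ≫ T.hom
        rw [Category.id_comp, Over.w])
    have h1 := h (Over.mk t.left) v (bcEquiv T.hom (Over.mk t.left) H (κ.hom ≫ a))
    rw [comp_unfam, Equiv.symm_apply_apply] at h1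
    have h2 : (bcEquiv T.hom (Over.mk t.left) G) 1 = 1 := bcEquiv_one _
    rw [← h2] at h1
    have h3 := (bcEquiv T.hom (Over.mk t.left) G).injective h1
    have h4 : st (T := T) (Over.mk t.left) = κ.hom ≫ t := by
      ext1
      change t.left = 𝟙 _ ≫ t.left
      rw [Category.id_comp]
    have h5 : κ.hom ≫ lift a t ≫ D = 1 := by
      rw [← h3, h4, ← Category.assoc, comp_lift]
    rw [← cancel_epi κ.hom, h5, MonObj.comp_one]
  · intro h Y y a
    rw [comp_unfam, h ((Over.map T.hom).obj Y) (st Y) (Over.homMk y.left (Over.w y)) _]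
    exact bcEquiv_one _

end unfam

end K9.PtsAux
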