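import Groth.Agent.SGA3x.K9.TrivLoc
import Groth.Agent.SGA3x.K9.DenseTors
import Groth.Agent.SGA3x.K6.HomDS
import Groth.Agent.SGA3x.K5.Clopen
import Groth.Agent.Sga3B.TorConj

/-!
# The locus where one subgroup of multiplicative type is contained in another
-/

set_option autoImplicit false
universe u
open CategoryTheory MonoidalCategory CartesianMonoidalCategory MonObj GrpObj AlgebraicGeometry Limits

namespace K9.SubLoc

open K9.TrivLoc K9.PtsAux K9.DenseTors Groth.Agent.Sga3B Groth.Agent.Sga3B.BcPts Groth.Agent.Sga3B.IsoFam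

variable {S : Scheme.{u}}

section le

variable {G H₁ H₂ : Over S} {i₁ : H₁ ⟶ G} {i₂ : H₂ ⟶ G}

/-- Over `T`, the points of `H₁` lie in `H₂`. -/
def Le (i₁ : H₁ ⟶ G) (i₂ : H₂ ⟶ G) (T : Over S) : Prop :=
  ∀ (X : Over S) (_ : X ⟶ T) (h : X ⟶ H₁), ∃ h' : X ⟶ H₂, h' ≫ i₂ = h ≫ i₁

lemma Le.comp {T T' : Over S} (t : T' ⟶ T) (h : Le i₁ i₂ T) : Le i₁ i₂ T' := fun X q a => h X (q ≫ t) a

lemma Le.of_etale [Mono i₂] {T : Over S}
    (h : ∀ t : T.left, ∃ (V : Over S) (j : V ⟶ T), Etale j.left ∧ t ∈ Set.range j.left ∧ Le i₁ i₂ V) :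
    Le i₁ i₂ T := by
  intro X q a
  have hm : Mono i₂.left := inferInstance
  obtain ⟨z, hz⟩ := EtGlue.factor_of_etale (a ≫ i₁).left i₂.left (by
    intro x
    obtain ⟨V, j, hj, ⟨v, hv⟩, hV⟩ := h (q.left x)
    obtain ⟨y, hy, -⟩ := Scheme.Pullback.exists_preimage_pullback (f := q.left) (g := j.left) x v hv.symm
    let W : Over S := Over.mk (pullback.fst q.left j.left ≫ X.hom)
    let r : W ⟶ X := Over.homMk (pullback.fst q.left j.left) rfl
    let p : W ⟶ V := Over.homMk (pullback.snd q.left j.left) (by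
      change pullback.snd q.left j.left ≫ V.hom = pullback.fst q.left j.left ≫ X.hom
      rw [← Over.w j, ← Over.w q, ← Category.assoc, ← Category.assoc, pullback.condition])
    obtain ⟨h', hh'⟩ := hV W p (r ≫ a)
    refine ⟨W.left, r.left, inferInstanceAs (Etale (pullback.fst q.left j.left)), ⟨y, hy⟩, h'.left, ?_⟩
    rw [← Over.comp_left, hh', Category.assoc, Over.comp_left])
  refine ⟨Over.homMk z ?_, ?_⟩
  · rw [← Over.w i₂, ← Category.assoc, hz, Over.w]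
  · ext1
    exact hz

lemma Le.of_map {V : Scheme.{u}} (v : V ⟶ S) {T : Over V}
    (h : Le ((Over.pullback v).map i₁) ((Over.pullback v).map i₂) T) : Le i₁ i₂ ((Over.map v).obj T) := by
  intro X q a
  let X' : Over V := Over.mk (q.left ≫ T.hom)
  let κ : (Over.map v).obj X' ≅ X := Over.isoMk (Iso.refl _) (by
    have h1 : q.left ≫ T.hom ≫ v = X.hom := Over.w q
    change 𝟙 _ ≫ X.hom = (q.left ≫ T.hom) ≫ v
    rw [Category.id_comp, Category.assoc, h1])
  obtain ⟨b, hb⟩ := h X' (Over.homMk q.left) (bcEquiv v X' H₁ (κ.hom ≫ a))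
  refine ⟨κ.inv ≫ (bcEquiv v X' H₂).symm b, ?_⟩
  rw [Category.assoc, ← bcEquiv_symm_comp, hb, ← bcEquiv_comp, Equiv.symm_apply_apply, Category.assoc,
    Iso.inv_hom_id_assoc]

lemma Le.map {V : Scheme.{u}} (v : V ⟶ S) {T : Over V} (h : Le i₁ i₂ ((Over.map v).obj T)) :
    Le ((Over.pullback v).map i₁) ((Over.pullback v).map i₂) T := by
  intro X q a
  obtain ⟨b, hb⟩ := h ((Over.map v).obj X) ((Over.map v).map q) ((bcEquiv v X H₁).symm a)
  refine ⟨bcEquiv v X H₂ b, ?_⟩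
  rw [← bcEquiv_comp, hb, bcEquiv_comp, Equiv.apply_symm_apply]

lemma Le.of_conj {H₁' H₂' : Over S} (e₁ : H₁ ≅ H₁') (e₂ : H₂ ≅ H₂') {T : Over S}
    (h : Le (e₁.inv ≫ i₁) (e₂.inv ≫ i₂) T) : Le i₁ i₂ T := by
  intro X q a
  obtain ⟨b, hb⟩ := h X q (a ≫ e₁.hom)
  exact ⟨b ≫ e₂.inv, by rw [Category.assoc, hb, Category.assoc, Iso.hom_inv_id_assoc]⟩

lemma Le.conj {H₁' H₂' : Over S} (e₁ : H₁ ≅ H₁') (e₂ : H₂ ≅ H₂') {T : Over S} (h : Le i₁ i₂ T) :
    Le (e₁.inv ≫ i₁) (e₂.inv ≫ i₂) T := by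
  intro X q a
  obtain ⟨b, hb⟩ := h X q (a ≫ e₁.inv)
  exact ⟨b ≫ e₂.hom, by rw [Category.assoc, Iso.hom_inv_id_assoc, hb, Category.assoc]⟩

end le

section split

variable {G : Over S} [GrpObj G] {M N : Type} [AddCommGroup M] [AddCommGroup N]

lemma finite_hom [Module.Finite ℤ N] {A : Type} [AddCommGroup A] [Finite A] : Finite (N →+ A) := by
  obtain ⟨F, hF⟩ := Module.Finite.fg_top (R := ℤ) (M := N)
  refine Finite.of_injective (fun (f : N →+ A) (x : F) => f x) ?_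
  intro f g hfg
  have h1 : f.toIntLinearMap = g.toIntLinearMap := LinearMap.ext_on hF (fun x hx => congrFun hfg ⟨x, hx⟩)
  exact AddMonoidHom.ext fun x => LinearMap.congr_fun h1 x

/-- **The locus where `j₁ = D(χ) ≫ j₂`**. -/
theorem exists_eq_locus [IsSeparated G.hom] (hG : Good G) (hM : AddGroup.FG M) (j₁ : Red.DS S M ⟶ G) (j₂ : Red.DS S N ⟶ G)
    [IsMonHom j₁] [IsMonHom j₂]
    (hc : ∀ (X : Over S) (a : X ⟶ Red.DS S M) (b : X ⟶ Red.DS S N), (a ≫ j₁) * (b ≫ j₂) = (b ≫ j₂) * (a ≫ j₁))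
    (χ : N →+ M) :
    ∃ U : S.Opens, IsClosed (U : Set S) ∧
      ∀ T : Over S, (∀ (X : Over S) (_ : X ⟶ T) (h : X ⟶ Red.DS S M), h ≫ j₁ = h ≫ Red.DSmap S χ ≫ j₂) ↔
        Set.range T.hom ⊆ (U : Set S) := by
  have hχ := K6.HomDS.isMonHom_DSmap S χ
  let w : Red.DS S M ⟶ G := j₁ * (Red.DSmap S χ ≫ j₂)⁻¹
  have hw : ∀ {X : Over S} (h : X ⟶ Red.DS S M), h ≫ w = (h ≫ j₁) * (h ≫ Red.DSmap S χ ≫ j₂)⁻¹ := by
    intro X h
    rw [MonObj.comp_mul, GrpObj.comp_inv]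
  have hwm : IsMonHom w := by
    refine isMonHom_of_mul _ fun X a b => ?_
    have e1 : (a * b) ≫ Red.DSmap S χ ≫ j₂ = (a ≫ Red.DSmap S χ ≫ j₂) * (b ≫ Red.DSmap S χ ≫ j₂) :=
      MonObj.mul_comp a b (Red.DSmap S χ ≫ j₂)
    have e2 : (a ≫ Red.DSmap S χ ≫ j₂) * (b ≫ Red.DSmap S χ ≫ j₂) = (b ≫ Red.DSmap S χ ≫ j₂) * (a ≫ Red.DSmap S χ ≫ j₂) := by
      have e0 : a * b = b * a := by
        apply (DSPts.dsEquiv X M).symm.injective
        change DSPts.dsChar (a * b) = DSPts.dsChar (b * a)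
        rw [DSPts.dsChar_mul, DSPts.dsChar_mul, _root_.mul_comm]
      rw [← e1, e0]
      exact MonObj.mul_comp b a (Red.DSmap S χ ≫ j₂)
    have e3 : (b ≫ j₁) * (a ≫ Red.DSmap S χ ≫ j₂) = (a ≫ Red.DSmap S χ ≫ j₂) * (b ≫ j₁) := by
      have := hc X b (a ≫ Red.DSmap S χ)
      simpa only [Category.assoc] using this
    have e4 : Commute (b ≫ j₁) (a ≫ Red.DSmap S χ ≫ j₂)⁻¹ := (show Commute _ _ from e3).inv_right
    rw [hw, hw, hw, MonObj.mul_comp, e1, e2, _root_.mul_inv_rev]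
    calc _ = (a ≫ j₁) * ((b ≫ j₁) * (a ≫ Red.DSmap S χ ≫ j₂)⁻¹) * (b ≫ Red.DSmap S χ ≫ j₂)⁻¹ := by group
      _ = _ := by rw [e4.eq]; group
  obtain ⟨U, hUc, hU⟩ := exists_triv (K10.MTLoc.of_split hM ⟨Iso.refl _⟩) hG w
  refine ⟨U, hUc, fun T => ?_⟩
  rw [← hU]
  refine forall_congr' fun X => forall_congr' fun _ => forall_congr' fun h => ?_
  rw [hw, mul_inv_eq_one]

/-- Over a field-valued point an inclusion is given by a homomorphism `N →+ M`. -/
theorem exists_hom_of_le [Module.Finite ℤ N] (j₁ : Red.DS S M ⟶ G) (j₂ : Red.DS S N ⟶ G)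
    [IsMonHom j₁] [IsMonHom j₂] [Mono j₂] {K : Type u} [Field K] (x : Spec (CommRingCat.of K) ⟶ S)
    (h : Le j₁ j₂ (Over.mk x)) :
    ∃ χ : N →+ M, ∀ (X : Over S) (_ : X ⟶ Over.mk x) (a : X ⟶ Red.DS S M), a ≫ j₁ = a ≫ Red.DSmap S χ ≫ j₂ := by
  obtain ⟨h', hh'⟩ := h (Red.DS S M ⊗ Over.mk x) (snd _ _) (fst _ _)
  have hpt : ∀ {X : Over S} (a : X ⟶ Red.DS S M) (t : X ⟶ Over.mk x), (lift a t ≫ h') ≫ j₂ = a ≫ j₁ := by
    intro X a t
    rw [Category.assoc, hh', lift_fst_assoc]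
  have hfam : AutFam.IsHomFamily (Red.DS S M) (Red.DS S N) h' := by
    intro X a b t
    rw [← cancel_mono j₂, hpt, MonObj.mul_comp a b j₁, MonObj.mul_comp _ _ j₂, hpt, hpt]
  obtain ⟨U, hU, χ, hχ⟩ := K6.HomDS.exists_near_family x h' hfam (IsLocalRing.closedPoint K)
  refine ⟨χ, fun X t a => ?_⟩
  rw [← hpt a t, hχ X a t ?_, Category.assoc]
  rintro y -
  have : y = IsLocalRing.closedPoint K := Subsingleton.elim (α := PrimeSpectrum K) _ _
  rw [this]
  exact hU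

omit [GrpObj G] in
lemma pts_of_map_eq {A : Over S} {f g : A ⟶ G} {V : Scheme.{u}} {v : V ⟶ S}
    (h : (Over.pullback v).map f = (Over.pullback v).map g) (X : Over S) (t : X ⟶ Over.mk v) (a : X ⟶ A) :
    a ≫ f = a ≫ g := by
  rw [← ev_map (f := v) f a t, h, ev_map]

omit [GrpObj G] in
lemma map_eq_of_pts {A : Over S} {f g : A ⟶ G} {V : Scheme.{u}} {v : V ⟶ S}
    (h : ∀ (X : Over S) (_ : X ⟶ Over.mk v) (a : X ⟶ A), a ≫ f = a ≫ g) :
    (Over.pullback v).map f = (Over.pullback v).map g := by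
  apply fam_injective
  rw [fam, fam, ev_map, ev_map]
  exact h _ (snd _ _) _

/-- **Inclusions are detected on torsion**, at field-valued points. -/
theorem le_of_torsion [IsSeparated G.hom] [Module.Finite ℤ M] [Module.Finite ℤ N] (j₁ : Red.DS S M ⟶ G) (j₂ : Red.DS S N ⟶ G)
    [IsMonHom j₁] [IsMonHom j₂] [Mono j₂] {K : Type u} [Field K] (x : Spec (CommRingCat.of K) ⟶ S)
    (h : ∀ k : ℕ, k ≠ 0 → Le (Red.DSmap S (prj M k) ≫ j₁) j₂ (Over.mk x)) : Le j₁ j₂ (Over.mk x) := by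
  let j₁' : Red.DS (Spec (CommRingCat.of K)) M ⟶ Red.bc x G := (TorConj.cI x M).inv ≫ (Over.pullback x).map j₁
  let j₂' : Red.DS (Spec (CommRingCat.of K)) N ⟶ Red.bc x G := (TorConj.cI x N).inv ≫ (Over.pullback x).map j₂
  have hm : Mono j₂' := by
    have : Mono ((Over.pullback x).map j₂) := inferInstance
    infer_instance
  have hsep : IsSeparated (Red.bc x G).hom := inferInstanceAs (IsSeparated (pullback.snd G.hom x))
  have hD : ∀ {A B : Type} [AddCommGroup A] [AddCommGroup B] (φ : A →+ B), Red.DSmap (Spec (CommRingCat.of K)) φ =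
      (TorConj.cI x B).inv ≫ (Over.pullback x).map (Red.DSmap S φ) ≫ (TorConj.cI x A).hom := by
    intro A B _ _ φ
    rw [TorConj.map_DSmap_cI, Iso.inv_hom_id_assoc]
  obtain ⟨χ, hχ⟩ := exists_hom_of_torsion (R := K) j₁' j₂' (by
    intro k hk
    have := K6.HomDS.isMonHom_DSmap S (prj M k)
    obtain ⟨χ, hχ⟩ := exists_hom_of_le (Red.DSmap S (prj M k) ≫ j₁) j₂ x (h k hk)
    have h1 := map_eq_of_pts hχ
    refine ⟨χ, ?_⟩
    simp only [j₁', j₂', hD, Category.assoc, Iso.hom_inv_id_assoc]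
    rw [← Functor.map_comp, ← Functor.map_comp, h1])
  have h2 : (Over.pullback x).map j₁ = (Over.pullback x).map (Red.DSmap S χ ≫ j₂) := by
    rw [← cancel_epi (TorConj.cI x M).inv]
    change j₁' = _
    rw [hχ]
    simp only [j₂', hD, Category.assoc, Iso.hom_inv_id_assoc, Functor.map_comp]
  intro X t a
  exact ⟨a ≫ Red.DSmap S χ, by rw [Category.assoc, pts_of_map_eq h2 X t a]⟩

/-- **The locus of inclusion**, split case. -/
theorem split_local [IsSeparated G.hom] (hG : Good G) (hM : AddGroup.FG M) (hN : AddGroup.FG N)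
    (j₁ : Red.DS S M ⟶ G) (j₂ : Red.DS S N ⟶ G) [IsMonHom j₁] [IsMonHom j₂] [Mono j₂]
    (hc : ∀ (X : Over S) (a : X ⟶ Red.DS S M) (b : X ⟶ Red.DS S N), (a ≫ j₁) * (b ≫ j₂) = (b ≫ j₂) * (a ≫ j₁))
    (s : S) :
    ∃ W : S.Opens, s ∈ W ∧ ((∀ T : Over S, Set.range T.hom ⊆ (W : Set S) → Le j₁ j₂ T) ∨
      ∀ T : Over S, Set.range T.hom ⊆ (W : Set S) → Nonempty T.left → ¬ Le j₁ j₂ T) := by
  have hfM : Module.Finite ℤ M := Module.Finite.iff_addGroup_fg.mpr hM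
  have hfN : Module.Finite ℤ N := Module.Finite.iff_addGroup_fg.mpr hN
  have hrange : ∀ s : S, Set.range (S.fromSpecResidueField s) = {s} := fun s => by
    rw [Scheme.range_fromSpecResidueField]
  by_cases hs : Le j₁ j₂ (Over.mk (S.fromSpecResidueField s))
  · obtain ⟨χ, hχ⟩ := exists_hom_of_le (K := S.residueField s) j₁ j₂ _ hs
    obtain ⟨U, -, hU⟩ := exists_eq_locus hG hM j₁ j₂ hc χ
    refine ⟨U, ?_, Or.inl fun T hT X q a => ?_⟩
    · refine (hU (Over.mk (S.fromSpecResidueField s))).mp hχ ?_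
      change s ∈ Set.range (S.fromSpecResidueField s)
      rw [hrange]
      rfl
    · exact ⟨a ≫ Red.DSmap S χ, by rw [Category.assoc, (hU T).mpr hT X q a]⟩
  · obtain ⟨k, hk, hk'⟩ : ∃ k : ℕ, k ≠ 0 ∧ ¬ Le (Red.DSmap S (prj M k) ≫ j₁) j₂ (Over.mk (S.fromSpecResidueField s)) := by
      by_contra hcon
      push Not at hcon
      exact hs (le_of_torsion (K := S.residueField s) j₁ j₂ _ hcon)
    have hD := K6.HomDS.isMonHom_DSmap S (prj M k)
    have hfin : Finite (Mod M k) := finite_mod hk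
    have hMk : AddGroup.FG (Mod M k) := inferInstance
    have hc' : ∀ (X : Over S) (a : X ⟶ Red.DS S (Mod M k)) (b : X ⟶ Red.DS S N),
        (a ≫ Red.DSmap S (prj M k) ≫ j₁) * (b ≫ j₂) = (b ≫ j₂) * (a ≫ Red.DSmap S (prj M k) ≫ j₁) := by
      intro X a b
      have := hc X (a ≫ Red.DSmap S (prj M k)) b
      simpa only [Category.assoc] using this
    have hloc := fun χ : N →+ Mod M k => exists_eq_locus hG hMk (Red.DSmap S (prj M k) ≫ j₁) j₂ hc' χ
    choose U hUc hU using hloc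
    have hfin' : Finite (N →+ Mod M k) := finite_hom
    have hcl : IsClosed (⋃ χ, (U χ : Set S)) := isClosed_iUnion_of_finite hUc
    have key : ∀ t : S, Le (Red.DSmap S (prj M k) ≫ j₁) j₂ (Over.mk (S.fromSpecResidueField t)) →
        t ∈ (⋃ χ, (U χ : Set S)) := by
      intro t ht
      obtain ⟨χ, hχ⟩ := exists_hom_of_le (K := S.residueField t) _ j₂ _ ht
      refine Set.mem_iUnion.mpr ⟨χ, (hU χ _).mp hχ ?_⟩
      change t ∈ Set.range (S.fromSpecResidueField t)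
      rw [hrange]
      rfl
    refine ⟨⟨(⋃ χ, (U χ : Set S))ᶜ, hcl.isOpen_compl⟩, ?_, Or.inr fun T hT ⟨t⟩ hle => ?_⟩
    · intro hmem
      obtain ⟨χ, hχ⟩ := Set.mem_iUnion.mp hmem
      apply hk'
      intro X q a
      refine ⟨a ≫ Red.DSmap S χ, ?_⟩
      rw [Category.assoc]
      refine ((hU χ (Over.mk (S.fromSpecResidueField s))).mpr ?_ X q a).symm
      change Set.range (S.fromSpecResidueField s) ⊆ _
      rw [hrange]
      exact Set.singleton_subset_iff.mpr hχ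
    · -- the point `t`
      have h1 : Le (Red.DSmap S (prj M k) ≫ j₁) j₂ T := by
        intro X q a
        obtain ⟨b, hb⟩ := hle X q (a ≫ Red.DSmap S (prj M k))
        exact ⟨b, by rw [hb, Category.assoc]⟩
      let x : Spec (CommRingCat.of (T.left.residueField t)) ⟶ S := T.left.fromSpecResidueField t ≫ T.hom
      have h2 : Le (Red.DSmap S (prj M k) ≫ j₁) j₂ (Over.mk x) := h1.comp (Over.homMk (T.left.fromSpecResidueField t) rfl)
      obtain ⟨χ, hχ⟩ := exists_hom_of_le (K := T.left.residueField t) _ j₂ x h2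
      have h3 := (hU χ _).mp hχ
      have h4 : T.hom t ∈ Set.range x := by
        refine ⟨IsLocalRing.closedPoint _, ?_⟩
        change (T.left.fromSpecResidueField t ≫ T.hom) _ = _
        rw [Scheme.Hom.comp_apply]
        congr 1
        exact Scheme.fromSpecResidueField_apply _ _
      exact hT ⟨t, rfl⟩ (Set.mem_iUnion.mpr ⟨χ, h3 h4⟩)

end split

end K9.SubLoc
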