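import Groth.Agent.SGA3x.K9.PtsAux
import Groth.Agent.SGA3x.K9.EtGlue
import Groth.Agent.SGA3x.K10.MTLoc
import Groth.Agent.S5286

/-!
# The locus where a homomorphism from a group of multiplicative type is trivial
-/

set_option autoImplicit false
universe u
open CategoryTheory MonoidalCategory CartesianMonoidalCategory MonObj GrpObj AlgebraicGeometry Limits

namespace K9.TrivLoc

open K9.PtsAux

variable {S : Scheme.{u}}

/-- The finiteness hypotheses on `G`. -/
def Good (G : Over S) : Prop :=
  IsLocallyNoetherian S ∨ (LocallyOfFinitePresentation G.hom ∧ QuasiCompact G.hom ∧ QuasiSeparated G.hom)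

lemma Good.bc {G : Over S} (h : Good G) {V : Scheme.{u}} (v : V ⟶ S) [LocallyOfFiniteType v] : Good (Red.bc v G) := by
  rcases h with h | ⟨h1, h2, h3⟩
  · exact Or.inl (LocallyOfFiniteType.isLocallyNoetherian v)
  · exact Or.inr ⟨inferInstanceAs (LocallyOfFinitePresentation (pullback.snd G.hom v)),
      inferInstanceAs (QuasiCompact (pullback.snd G.hom v)), inferInstanceAs (QuasiSeparated (pullback.snd G.hom v))⟩

/-- Triviality over a field extension. -/
lemma eq_of_field_ext {A B T : Over S} {f g : A ⟶ B} (t : T.left)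
    (h : ∀ (X : Over S) (_ : X ⟶ T) (x : X ⟶ A), x ≫ f = x ≫ g) (X : Over S)
    (p : X ⟶ Over.mk (S.fromSpecResidueField (T.hom t))) (x : X ⟶ A) : x ≫ f = x ≫ g := by
  let c : Spec (T.left.residueField t) ⟶ Spec (S.residueField (T.hom t)) := Spec.map (T.hom.residueFieldMap t)
  have hc : Flat c := by
    let _ : Algebra (S.residueField (T.hom t)) (T.left.residueField t) := (T.hom.residueFieldMap t).hom.toAlgebra
    change Flat (Spec.map _)
    rw [Flat.SpecMap_iff]
    exact (RingHom.flat_algebraMap_iff (R := S.residueField (T.hom t)) (S := T.left.residueField t)).mpr inferInstance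
  have hc' : Surjective c := ⟨fun y => ⟨IsLocalRing.closedPoint _, Subsingleton.elim (α := PrimeSpectrum _) _ _⟩⟩
  let X' : Over S := Over.mk (pullback.fst p.left c ≫ X.hom)
  let j : X' ⟶ X := Over.homMk (pullback.fst p.left c) rfl
  have hj : Epi j.left := Flat.epi_of_flat_of_surjective (pullback.fst p.left c)
  have hj' : Epi j := Over.epi_of_epi_left j
  let q : X' ⟶ T := Over.homMk (pullback.snd p.left c ≫ T.left.fromSpecResidueField t) (by
    change (pullback.snd p.left c ≫ T.left.fromSpecResidueField t) ≫ T.hom = pullback.fst p.left c ≫ X.hom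
    have h1 : T.left.fromSpecResidueField t ≫ T.hom = c ≫ S.fromSpecResidueField (T.hom t) := by simp [c]
    have h2 : p.left ≫ S.fromSpecResidueField (T.hom t) = X.hom := Over.w p
    rw [Category.assoc, h1, ← Category.assoc, ← pullback.condition, Category.assoc, h2])
  rw [← cancel_epi j]
  have := h X' q (j ≫ x)
  simpa using this

/-- **The triviality locus** is open and closed and controls triviality over all `S`-schemes. -/
theorem exists_triv {H G : Over S} [GrpObj H] [GrpObj G] (hH : SGA3x.IsMultTypeFT H) [IsSeparated G.hom] (hG : Good G)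
    (w : H ⟶ G) [IsMonHom w] :
    ∃ U : S.Opens, IsClosed (U : Set S) ∧
      ∀ T : Over S, (∀ (X : Over S) (_ : X ⟶ T) (h : X ⟶ H), h ≫ w = 1) ↔ Set.range T.hom ⊆ (U : Set S) := by
  obtain ⟨U, hUc, hU, hU1⟩ := Groth.Agent.S5286.result H G hH hG w
  refine ⟨U, hUc, fun T => ⟨fun h => ?_, fun h X q x => ?_⟩⟩
  · rintro _ ⟨t, rfl⟩
    change T.hom t ∈ U
    rw [hU, PtsAux.map_eq_one_iff]
    intro X p x
    have h1 := eq_of_field_ext (f := w) (g := 1) t (fun X q x => by rw [h X q x, MonObj.comp_one]) X p x
    rw [h1, MonObj.comp_one]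
  · rw [PtsAux.map_eq_one_iff] at hU1
    have h1 : Set.range X.hom ⊆ Set.range U.ι := by
      rw [Scheme.Opens.range_ι]
      rintro _ ⟨y, rfl⟩
      refine h ⟨q.left y, ?_⟩
      rw [← Scheme.Hom.comp_apply, Over.w q]
    exact hU1 X (Over.homMk (IsOpenImmersion.lift U.ι X.hom h1) (IsOpenImmersion.lift_fac _ _ _)) x

end K9.TrivLoc
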